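import Mathlib
import Cfsg.Agent.Lib.W2.Tools
import Cfsg.Agent.Lib.PGroup.Basic
import Cfsg.Agent.Lib.Frob.Quaternion

/-!
Tools for perfect groups acted on by an involution or a four-group with small fixed points:
extremal conjugates, transfer into a subgroup of index two, invariant cyclic subgroups of index two.
-/

set_option autoImplicit false

namespace CfsgLib.Semi4

open Subgroup Cfsg CfsgLib.Tech CfsgLib.W2

variable {G : Type*} [Group G]

theorem chain {r a b : G} {k : ℕ} (hr : r ^ 2 ^ k = 1) (ha : a ∈ zpowers r) (hb : b ∈ zpowers r) :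
    a ∈ zpowers b ∨ b ∈ zpowers a := by
  induction k generalizing r with
  | zero =>
    have : r = 1 := by simpa using hr
    subst this
    left
    rw [zpowers_one_eq_bot, mem_bot] at ha
    rw [ha]; exact one_mem _
  | succ k ih =>
    have odd : ∀ i : ℤ, Odd i → r ∈ zpowers (r ^ i) := fun i hi => by
      have hc : IsCoprime i ((2 ^ (k + 1) : ℕ) : ℤ) := by
        push_cast
        exact (Int.isCoprime_iff_gcd_eq_one.2 (by
          obtain ⟨j, rfl⟩ := hi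
          exact Int.isCoprime_iff_gcd_eq_one.1 ⟨1, -j, by ring⟩)).pow_right
      obtain ⟨u, v, e⟩ := hc
      refine mem_zpowers_iff.2 ⟨u, ?_⟩
      have : r ^ (u * i + v * ((2 ^ (k + 1) : ℕ) : ℤ)) = r := by rw [e, zpow_one]
      rwa [zpow_add, mul_comm v, zpow_mul r _ v, zpow_natCast, hr, one_zpow, mul_one, mul_comm u, zpow_mul] at this
    obtain ⟨i, rfl⟩ := mem_zpowers_iff.1 ha
    obtain ⟨j, rfl⟩ := mem_zpowers_iff.1 hb
    rcases Int.even_or_odd i with ⟨i, rfl⟩ | hi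
    · rcases Int.even_or_odd j with ⟨j, rfl⟩ | hj
      · refine ih (r := r ^ 2) (by rw [← pow_mul, ← pow_succ', hr]) (mem_zpowers_iff.2 ⟨i, ?_⟩)
          (mem_zpowers_iff.2 ⟨j, ?_⟩) <;> rw [← zpow_natCast, ← zpow_mul] <;> congr 1 <;> push_cast <;> ring
      · exact Or.inl (zpowers_le.2 (odd j hj) ha)
    · exact Or.inr (zpowers_le.2 (odd i hi) hb)

theorem comm_zp {r a b : G} (ha : a ∈ zpowers r) (hb : b ∈ zpowers r) : a * b = b * a := by
  obtain ⟨i, rfl⟩ := mem_zpowers_iff.1 ha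
  obtain ⟨j, rfl⟩ := mem_zpowers_iff.1 hb
  rw [← zpow_add, ← zpow_add, add_comm]

theorem mem_four {y x : G} (h4 : y * y * (y * y) = 1) (hx : x ∈ zpowers y) :
    x = 1 ∨ x = y ∨ x = y * y ∨ x = y⁻¹ := by
  have h : y ^ (4 : ℤ) = 1 := by
    rw [← h4, show (4 : ℤ) = ((4 : ℕ) : ℤ) from rfl, zpow_natCast]; simp [pow_succ, mul_assoc]
  obtain ⟨i, rfl⟩ := mem_zpowers_iff.1 hx
  have e : y ^ i = y ^ (i % 4) := by
    conv_lhs => rw [← Int.mul_ediv_add_emod i 4, zpow_add, zpow_mul, h, one_zpow, one_mul]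
  have h0 : 0 ≤ i % 4 := Int.emod_nonneg _ (by norm_num)
  have h1 : i % 4 < 4 := Int.emod_lt_of_pos _ (by norm_num)
  rw [e]
  generalize i % 4 = j at h0 h1
  interval_cases j
  · simp
  · simp
  · right; right; left; exact zpow_two y
  · right; right; right
    rw [eq_inv_iff_mul_eq_one, ← h]; group

theorem mem_two {z x : G} (h2 : z * z = 1) (hx : x ∈ zpowers z) : x = 1 ∨ x = z := by
  rcases mem_four (y := z) (by rw [h2, one_mul]) hx with h | h | h | h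
  exacts [Or.inl h, Or.inr h, Or.inl (h.trans h2), Or.inr (h.trans (inv_eq_of_mul_eq_one_right h2))]

/-- `R = ⟨r⟩` is a cyclic 2-group and `y` an element of order four of it. -/
structure Cy (r y : G) : Prop where
  pw : ∃ k, r ^ 2 ^ k = 1
  mem : y ∈ zpowers r
  y4 : y * y * (y * y) = 1
  y2 : y * y ≠ 1

namespace Cy

variable {r y : G} (h : Cy r y)
include h

theorem inv_ne : y⁻¹ ≠ y := fun e => h.y2 (by nth_rewrite 1 [← e]; simp)

theorem mem_of_sq {ρ : G} (hρ : ρ ∈ zpowers r) (h2 : ρ * ρ ≠ 1) : y ∈ zpowers ρ := by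
  obtain ⟨k, hk⟩ := h.pw
  rcases chain hk h.mem hρ with e | e
  · exact e
  · rcases mem_four h.y4 e with rfl | rfl | rfl | rfl
    · exact absurd (one_mul _) h2
    · exact mem_zpowers _
    · exact absurd h.y4 h2
    · rw [zpowers_inv]; exact mem_zpowers _

theorem invol {ρ : G} (hρ : ρ ∈ zpowers r) (h2 : ρ * ρ = 1) : ρ = 1 ∨ ρ = y * y := by
  obtain ⟨k, hk⟩ := h.pw
  rcases chain hk h.mem hρ with e | e
  · rcases mem_two h2 e with e | e
    · exact absurd (by rw [e, one_mul]) h.y2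
    · exact absurd (by rw [e, h2]) h.y2
  · rcases mem_four h.y4 e with rfl | rfl | rfl | rfl
    · exact Or.inl rfl
    · exact absurd h2 h.y2
    · exact Or.inr rfl
    · exact absurd (by rw [← inv_inv y, ← mul_inv_rev, h2, inv_one]) h.y2

theorem four {ρ : G} (hρ : ρ ∈ zpowers r) (h4 : ρ * ρ * (ρ * ρ) = 1) (h2 : ρ * ρ ≠ 1) :
    ρ = y ∨ ρ = y⁻¹ := by
  rcases mem_four h4 (h.mem_of_sq hρ h2) with e | e | e | e
  · exact absurd (by rw [e, one_mul]) h.y2
  · exact Or.inl e.symm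
  · exact absurd (by rw [e, h4]) h.y2
  · exact Or.inr (by rw [e, inv_inv])

/-- an element inverted by something centralising `y` is an involution -/
theorem sq_of_inv {ρ g : G} (hρ : ρ ∈ zpowers r) (hg : g * y * g⁻¹ = y) (e : g * ρ * g⁻¹ = ρ⁻¹) :
    ρ = 1 ∨ ρ = y * y := by
  refine h.invol hρ (by_contra fun h2 => ?_)
  obtain ⟨i, hi⟩ := mem_zpowers_iff.1 (h.mem_of_sq hρ h2)
  exact h.inv_ne (by rw [← hg]; nth_rewrite 2 [← hi]; rw [← conj_zpow, e, inv_zpow, hi, hg])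

/-- an element centralised by something inverting `y` is an involution -/
theorem sq_of_cent {ρ g : G} (hρ : ρ ∈ zpowers r) (hg : g * y * g⁻¹ = y⁻¹) (e : g * ρ * g⁻¹ = ρ) :
    ρ = 1 ∨ ρ = y * y := by
  refine h.invol hρ (by_contra fun h2 => ?_)
  obtain ⟨i, hi⟩ := mem_zpowers_iff.1 (h.mem_of_sq hρ h2)
  exact h.inv_ne (by rw [← hg]; nth_rewrite 1 [← hi]; rw [← conj_zpow, e, hi])

theorem conj {g : G} (hg : ∀ x ∈ zpowers r, g * x * g⁻¹ ∈ zpowers r) :
    g * y * g⁻¹ = y ∨ g * y * g⁻¹ = y⁻¹ :=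
  h.four (hg y h.mem) (by simp only [conj_mul, h.y4]; simp)
    (by rw [conj_mul]; exact fun e => h.y2 (by simpa using e))

theorem conj_z {g : G} (hg : ∀ x ∈ zpowers r, g * x * g⁻¹ ∈ zpowers r) :
    g * (y * y) * g⁻¹ = y * y := by
  rw [← conj_mul]
  rcases h.conj hg with e | e <;> rw [e]
  rw [← mul_inv_rev]; exact inv_eq_of_mul_eq_one_right h.y4

end Cy

theorem ext_two {H : Subgroup G} {b : G} (hn : ∀ x ∈ H, b * x * b⁻¹ ∈ H) (h2 : b * b ∈ H) :
    ∃ M : Subgroup G, ∀ x, x ∈ M ↔ x ∈ H ∨ x * b⁻¹ ∈ H := by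
  have hn' : ∀ x ∈ H, b⁻¹ * x * b ∈ H := fun x hx => by
    have := hn _ (mul_mem (mul_mem (inv_mem h2) hx) h2)
    convert this using 1; group
  refine ⟨⟨⟨⟨{x | x ∈ H ∨ x * b⁻¹ ∈ H}, ?_⟩, Or.inl (one_mem _)⟩, ?_⟩, fun _ => Iff.rfl⟩
  · rintro x y (hx | hx) (hy | hy)
    · exact Or.inl (mul_mem hx hy)
    · exact Or.inr (by rw [mul_assoc]; exact mul_mem hx hy)
    · refine Or.inr ?_
      have := mul_mem hx (hn y hy)
      convert this using 1; group
    · refine Or.inl ?_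
      have := mul_mem (mul_mem hx (hn _ hy)) h2
      convert this using 1; group
  · rintro x (hx | hx)
    · exact Or.inl (inv_mem hx)
    · refine Or.inr ?_
      have := mul_mem (hn' _ (inv_mem hx)) (inv_mem h2)
      convert this using 1; group

variable [Finite G] {S K : Subgroup G}

theorem ext (hS : IsSylowIn 2 S K) {z s k : G} (hz : S ≤ Cx z) (hk : k ∈ K) (e : k * s * k⁻¹ = z)
    {P : Subgroup G} (hP : IsPGroup 2 P) (hPK : P ≤ K) (hPs : P ≤ Cx s) :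
    ∃ g ∈ K, g * s * g⁻¹ = z ∧ ∀ x ∈ P, g * x * g⁻¹ ∈ S := by
  have h1 : IsSylowIn 2 S (K ⊓ Cx z) := hS.of_le (le_inf hS.le hz) inf_le_left
  obtain ⟨c, hc, h⟩ := h1.exists_cj_le (isPGroup_cj k hP) (cj_le_iff.2 fun x hx =>
    ⟨K.mul_mem (K.mul_mem hk (hPK hx)) (K.inv_mem hk), e ▸ conj_mem_Cx.2 (hPs hx)⟩)
  refine ⟨c * k, mul_mem hc.1 hk, ?_, fun x hx => ?_⟩
  · rw [← mem_Cx'.1 hc.2, ← e]; group
  · rw [← cj_mul] at h
    exact cj_le_iff.1 h x hx

theorem ext2 (hS : IsSylowIn 2 S K) {a b k : G} (hk : k ∈ K) (e : k * b * k⁻¹ = a)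
    {P Q : Subgroup G} (hP : IsPGroup 2 P) (hPK : P ≤ K) (hPa : P ≤ Cx a)
    (hQ : IsPGroup 2 Q) (hQK : Q ≤ K) (hQb : Q ≤ Cx b) :
    ∃ g ∈ K, ∃ h ∈ K, g * a * g⁻¹ = h * b * h⁻¹ ∧ (∀ x ∈ P, g * x * g⁻¹ ∈ S) ∧ ∀ x ∈ Q, h * x * h⁻¹ ∈ S := by
  obtain ⟨R, hR, hPR⟩ := exists_isSylowIn_ge hP (le_inf hPK hPa)
  obtain ⟨c, hc, h⟩ := hR.exists_cj_le (isPGroup_cj k hQ) (cj_le_iff.2 fun x hx =>
    ⟨K.mul_mem (K.mul_mem hk (hQK hx)) (K.inv_mem hk), e ▸ conj_mem_Cx.2 (hQb hx)⟩)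
  obtain ⟨g, hg, h'⟩ := hS.exists_cj_le hR.pgroup (hR.le.trans inf_le_left)
  refine ⟨g, hg, g * (c * k), mul_mem hg (mul_mem hc.1 hk), ?_, fun x hx => cj_le_iff.1 h' x (hPR hx),
    fun x hx => ?_⟩
  · rw [← mem_Cx'.1 hc.2, ← e]; group
  · rw [← cj_mul] at h
    have := cj_le_iff.1 h' _ (cj_le_iff.1 h x hx)
    convert this using 1; group

/-- a square root of the central involution centralises no other conjugate of it -/
theorem sq (hS : IsSylowIn 2 S K) {z s k w : G} (hz : S ≤ Cx z) (hk : k ∈ K) (e : k * s * k⁻¹ = z)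
    (hne : s ≠ z) (z2 : z * z = 1) (hw : w ∈ K) (hws : w * s = s * w) (hw2 : w * w = z)
    (hsq : ∀ g ∈ K, g * w * g⁻¹ ∈ S → g * z * g⁻¹ = z) : False := by
  have w4 : w ^ 2 ^ 2 = 1 := by rw [← z2, ← hw2]; simp [pow_succ, mul_assoc]
  obtain ⟨g, hg, e1, h⟩ := ext hS hz hk e (isPGroup_zpowers_of_pow w4) (zpowers_le.2 hw)
    (zpowers_le.2 (mem_Cx.2 hws))
  exact hne (by simpa using e1.trans (hsq g hg (h w (mem_zpowers w))).symm)

theorem thom {A T M : Subgroup G} (hT : IsSylowIn 2 T A) (hA : ∀ L : Subgroup G, L ≤ A → L.relIndex A ≠ 2)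
    {b : G} (hb : b ∈ T) (hbM : b ∉ M) (hM : ∀ x ∈ T, x * b ∈ M ∨ x ∈ M) {s : G} (hs : s ∈ A)
    (s2 : s * s = 1) (s1 : s ≠ 1) : ∃ k ∈ A, k * s * k⁻¹ ∈ M := by
  have hi : M.relIndex T = 2 := relIndex_eq_two_iff_exists_notMem_and.2 ⟨b, hb, hbM, hM⟩
  obtain ⟨g, hg⟩ := Transfer.exists_conj_mem_of_no_index_two (G := A) (fun L hL => hA (L.map A.subtype)
    (map_subtype_le _) (by rw [relIndex, subgroupOf, comap_map_eq_self_of_injective A.subtype_injective, hL]))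
    (H := T.subgroupOf A) (Q := M.subgroupOf A) hT.not_dvd (by rw [relIndex_subgroupOf hT.le, hi])
    (u := ⟨s, hs⟩) (ord_two (Subtype.ext s2) fun e => s1 (congrArg Subtype.val e))
  exact ⟨g, g.2, hg⟩

theorem foc {A T M : Subgroup G} (hT : IsSylowIn 2 T A) (hA : ∀ L : Subgroup G, L ≤ A → L.relIndex A ≠ 2)
    (hMT : M ≤ T) {b : G} (hb : b ∈ T) (hbM : b ∉ M) (hM : ∀ x ∈ T, x * b ∈ M ∨ x ∈ M) :
    ∃ k ∈ A, ∃ a ∈ M, k * a * k⁻¹ ∈ T ∧ k * a * k⁻¹ ∉ M := by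
  by_contra hc
  push Not at hc
  obtain ⟨L, h1, h2, -⟩ := exists_index_two_of_closed hT hMT
    (relIndex_eq_two_iff_exists_notMem_and.2 ⟨b, hb, hbM, hM⟩) hc
  exact hA L h1 h2

theorem step {M N : Subgroup G} (hS : IsPGroup 2 S) (hMS : M ≤ S) (hM : S ≤ normalizer (M : Set G))
    (hN : S ≤ normalizer (N : Set G)) (h : ¬ M ≤ N) :
    ∃ x ∈ M, x ∉ N ∧ x * x ∈ N ∧ ∀ g ∈ S, x * g * x⁻¹ * g⁻¹ ∈ N := by
  have := normal_subgroupOf_of_le_normalizer hM
  have := normal_subgroupOf_of_le_normalizer hN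
  obtain ⟨y, hy, h1, h2, h3⟩ := PGroup.exists_central_mod_pow_mem hS (M := M.subgroupOf S)
    (N := N.subgroupOf S) fun hle => h fun y hy => hle (show (⟨y, hMS hy⟩ : S) ∈ _ from hy)
  exact ⟨y, hy, h1, by rw [← pow_two]; exact h2, fun g hg => h3 ⟨g, hg⟩⟩

theorem rank_one {A T : Subgroup G} (hT : IsSylowIn 2 T A)
    (h : ∀ a ∈ T, ∀ b ∈ T, a * a = 1 → b * b = 1 → a ≠ 1 → b ≠ 1 → a * b = b * a → a = b) :
    PRankLE 2 1 A := by
  intro E hE h2
  have hp : IsPGroup 2 (E.map A.subtype) :=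
    IsPGroup.map (fun x => ⟨1, Subtype.ext (by simpa using h2 x x.2)⟩) _
  obtain ⟨g, -, hg⟩ := hT.exists_cj_le hp (map_subtype_le _)
  have hm : ∀ x ∈ E, g * (x : G) * g⁻¹ ∈ T := fun x hx => cj_le_iff.1 hg _ ⟨x, hx, rfl⟩
  have sq : ∀ x ∈ E, g * (x : G) * g⁻¹ * (g * (x : G) * g⁻¹) = 1 := fun x hx => by
    have : (x : G) * x = 1 := by rw [← pow_two]; exact congrArg Subtype.val (h2 x hx)
    rw [conj_mul, this]; simp
  have key : ∀ x y : E, x ≠ 1 → y ≠ 1 → x = y := fun x y x1 y1 => by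
    have := h _ (hm x x.2) _ (hm y y.2) (sq x x.2) (sq y y.2)
      (fun e => x1 (Subtype.ext (Subtype.ext (by simpa using e))))
      (fun e => y1 (Subtype.ext (Subtype.ext (by simpa using e))))
      (by rw [conj_mul, conj_mul]
          exact congrArg (fun t : E => g * ((t : A) : G) * g⁻¹) (hE.is_comm.comm x y))
    exact Subtype.ext (Subtype.ext (by simpa using this))
  classical
  have : Nat.card E ≤ Nat.card Bool := Nat.card_le_card_of_injective (fun x : E => decide (x = 1))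
    fun x y e => by
      have e' : x = 1 ↔ y = 1 := by simpa using e
      by_cases x1 : x = 1
      · rw [x1, e'.1 x1]
      · exact key x y x1 fun y1 => x1 (e'.2 y1)
  simpa using this

theorem eq_of_rank {A : Subgroup G} (h : PRankLE 2 1 A) {a b : G} (ha : a ∈ A) (hb : b ∈ A)
    (a2 : a * a = 1) (b2 : b * b = 1) (a1 : a ≠ 1) (b1 : b ≠ 1) (e : a * b = b * a) : a = b := by
  by_contra hne
  obtain ⟨M, hM⟩ := ext_two (H := zpowers (⟨a, ha⟩ : A)) (b := ⟨b, hb⟩) (fun x hx => by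
    rcases mem_two (Subtype.ext a2) hx with rfl | rfl
    · simp
    · have : (⟨b, hb⟩ : A) * ⟨a, ha⟩ * (⟨b, hb⟩ : A)⁻¹ = ⟨a, ha⟩ := Subtype.ext (by simp [← e])
      rw [this]; exact mem_zpowers _) (by
    have : (⟨b, hb⟩ : A) * ⟨b, hb⟩ = 1 := Subtype.ext b2
    rw [this]; exact one_mem _)
  have cs : ∀ x ∈ M, (x : G) = 1 ∨ (x : G) = a ∨ (x : G) = b ∨ (x : G) = a * b := fun x hx => by
    rcases (hM x).1 hx with h1 | h1 <;> rcases mem_two (Subtype.ext a2) h1 with h1 | h1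
    · exact Or.inl (congrArg Subtype.val h1)
    · exact Or.inr (Or.inl (congrArg Subtype.val h1))
    · exact Or.inr (Or.inr (Or.inl (by simpa [mul_inv_eq_one] using congrArg Subtype.val h1)))
    · exact Or.inr (Or.inr (Or.inr (by simpa [mul_inv_eq_iff_eq_mul] using congrArg Subtype.val h1)))
  have ab2 : a * b * (a * b) = 1 := by
    calc a * b * (a * b) = a * (b * a) * b := by group
      _ = a * a * (b * b) := by rw [← e]; group
      _ = 1 := by rw [a2, b2, one_mul]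
  have hc := h M ⟨⟨fun x y => Subtype.ext (Subtype.ext ?_)⟩⟩ fun x hx => Subtype.ext ?_
  · have h1 : (1 : A) ∈ M := one_mem _
    have h2 : (⟨a, ha⟩ : A) ∈ M := (hM _).2 (Or.inl (mem_zpowers _))
    have h3 : (⟨b, hb⟩ : A) ∈ M := (hM _).2 (Or.inr (by simp))
    have : Nat.card (Fin 3) ≤ Nat.card M := Nat.card_le_card_of_injective
      (fun i : Fin 3 => (![⟨_, h1⟩, ⟨_, h2⟩, ⟨_, h3⟩] i : M)) fun i j e => by
        have e' := congrArg (fun t : M => ((t : A) : G)) e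
        fin_cases i <;> fin_cases j <;> first | rfl | exfalso
        exacts [a1 e'.symm, b1 e'.symm, a1 e', hne e', b1 e', hne e'.symm]
    simp at this hc
    omega
  · have aab : a * (a * b) = a * b * a := by rw [mul_assoc, ← e]
    have bab : b * (a * b) = a * b * b := by rw [← mul_assoc, ← e]
    show (x : G) * y = y * x
    rcases cs x x.2 with h1 | h1 | h1 | h1 <;> rcases cs y y.2 with h2 | h2 | h2 | h2 <;>
      rw [h1, h2] <;> first | simp only [one_mul, mul_one] | exact e | exact e.symm | exact aab | exact aab.symm | exact bab | exact bab.symm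
  · show (x : G) ^ 2 = 1
    rw [pow_two]
    rcases cs x hx with h1 | h1 | h1 | h1 <;> rw [h1]
    exacts [one_mul 1, a2, b2, ab2]

end CfsgLib.Semi4
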