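import Cfsg.Agent.Lib.Semi4.Bas
import Cfsg.Agent.Lib.GW.DS

/-!
An invariant cyclic subgroup of index two, and the square-root argument.
-/

set_option autoImplicit false

namespace CfsgLib.Semi4

open Subgroup Cfsg CfsgLib.Tech CfsgLib.W2

variable {G : Type*} [Group G]

theorem zp_even {z : G} (h : z * z = 1) {i : ℤ} (hi : Even i) : z ^ i = 1 := by
  obtain ⟨j, rfl⟩ := hi
  rw [← two_mul, zpow_mul, zpow_two, h, one_zpow]

theorem zp_odd {z : G} (h : z * z = 1) {i : ℤ} (hi : Odd i) : z ^ i = z := by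
  obtain ⟨j, rfl⟩ := hi
  rw [zpow_add, zpow_mul, zpow_two, h, one_zpow, one_mul, zpow_one]

theorem exists_cy {r : G} {k : ℕ} (hk : r ^ 2 ^ k = 1) (h2 : r * r ≠ 1) : ∃ y, Cy r y := by
  suffices ∃ y ∈ zpowers r, y * y * (y * y) = 1 ∧ y * y ≠ 1 by
    obtain ⟨y, h1, h3, h4⟩ := this
    exact ⟨y, ⟨k, hk⟩, h1, h3, h4⟩
  induction k generalizing r with
  | zero => exact absurd (by rw [show r = 1 by simpa using hk, one_mul]) h2
  | succ k ih =>
    by_cases h4 : r * r * (r * r) = 1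
    · exact ⟨r, mem_zpowers r, h4, h2⟩
    · obtain ⟨y, h1, h3⟩ := ih (r := r * r) (by rw [← pow_two, ← pow_mul, ← pow_succ', hk]) h4
      exact ⟨y, zpowers_le.2 (mul_mem (mem_zpowers r) (mem_zpowers r)) h1, h3⟩

/-- `⟨r⟩` is an `S`-invariant cyclic subgroup of index two of `T`, `s` an involution outside. -/
structure CM (S T : Subgroup G) (r y s : G) : Prop where
  cy : Cy r y
  rT : r ∈ T
  nr : ∀ g ∈ S, ∀ x ∈ zpowers r, g * x * g⁻¹ ∈ zpowers r
  sT : s ∈ T
  sR : s ∉ zpowers r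
  s2 : s * s = 1
  idx : ∀ x ∈ T, x * s ∈ zpowers r ∨ x ∈ zpowers r

variable [Finite G]

theorem cyc {S T : Subgroup G} (hS : IsPGroup 2 S) (hTS : T ≤ S) (hn : S ≤ normalizer (T : Set G))
    (no4 : ∀ z ∈ T, ∀ u ∈ T, z * z = 1 → u * u = 1 → z ≠ 1 → u ≠ 1 → u ≠ z →
      (∀ g ∈ S, g * z * g⁻¹ = z) → (∀ g ∈ S, g * u * g⁻¹ = u ∨ g * u * g⁻¹ = u * z) → False)
    {a b : G} (ha : a ∈ T) (hb : b ∈ T) (a2 : a * a = 1) (b2 : b * b = 1) (a1 : a ≠ 1) (b1 : b ≠ 1)
    (hab : a ≠ b) : ∃ r y s, CM S T r y s := by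
  obtain ⟨R, ⟨hRT, hRn, hRc⟩, hmax⟩ := Set.Finite.exists_maximal (s := {R : Subgroup G | R ≤ T ∧
    (∀ g ∈ S, ∀ x ∈ R, g * x * g⁻¹ ∈ R) ∧ ∀ x ∈ R, ∀ y ∈ R, x * y = y * x}) (Set.toFinite _)
    ⟨⊥, bot_le, fun g _ x hx => by simp [mem_bot.1 hx], fun x hx y _ => by simp [mem_bot.1 hx]⟩
  have hRN : S ≤ normalizer (R : Set G) := fun g hg => mem_normalizer_of_forall (hRn g hg)
  have hT : ∀ g ∈ S, ∀ x ∈ T, g * x * g⁻¹ ∈ T := fun g hg x hx => conj_mem_of_mem_normalizer (hn hg) hx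
  have self : ∀ x ∈ T, (∀ y ∈ R, x * y = y * x) → x ∈ R := fun x0 hx0 hc0 => by
    by_contra hx0R
    obtain ⟨x, ⟨hxT, hxc⟩, hxR, hx2, hxg⟩ := step (M := T ⊓ centralizer (R : Set G)) hS
      (inf_le_left.trans hTS) (fun g hg => mem_normalizer_of_forall fun x hx => ⟨hT g hg x hx.1,
        mem_centralizer_iff.2 fun y hy => by
          have := mem_centralizer_iff.1 hx.2 _ (hRn g⁻¹ (inv_mem hg) y hy)
          calc y * (g * x * g⁻¹) = g * (g⁻¹ * y * g⁻¹⁻¹ * x) * g⁻¹ := by group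
            _ = _ := by rw [this]; group⟩) hRN
      (fun h => hx0R (h ⟨hx0, mem_centralizer_iff.2 fun y hy => (hc0 y hy).symm⟩))
    have hc : ∀ y ∈ R, y * x = x * y := mem_centralizer_iff.1 hxc
    obtain ⟨M, hM⟩ := ext_two (hRn x (hTS hxT)) hx2
    have hc' : ∀ y ∈ M, ∀ w ∈ R, y * w = w * y := fun y hy w hw => by
      rcases (hM y).1 hy with h | h
      · exact hRc y h w hw
      · calc y * w = y * x⁻¹ * (x * w) := by group
          _ = y * x⁻¹ * w * x := by rw [← hc w hw]; group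
          _ = w * y := by rw [hRc _ h w hw]; group
    refine hxR (hmax ⟨fun y hy => ?_, fun g hg y hy => ?_, fun y hy w hw => ?_⟩
      (fun y hy => (hM y).2 (Or.inl hy)) ((hM x).2 (Or.inr (by simp))))
    · rcases (hM y).1 hy with h | h
      · exact hRT h
      · simpa using mul_mem (hRT h) hxT
    · rcases (hM y).1 hy with h | h
      · exact (hM _).2 (Or.inl (hRn g hg y h))
      · refine (hM _).2 (Or.inr ?_)
        have := mul_mem (hRn g hg _ h) (inv_mem (hxg g hg))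
        convert this using 1; group
    · rcases (hM w).1 hw with h | h
      · exact hc' y hy w h
      · have e : y * x = x * y := by
          rcases (hM y).1 hy with h | h
          · exact hc y h
          · calc y * x = y * x⁻¹ * x * x := by group
              _ = x * y := by rw [hc _ h]; group
        calc y * w = y * (w * x⁻¹) * x := by group
          _ = w * x⁻¹ * (y * x) := by rw [hc' y hy _ h]; group
          _ = w * y := by rw [e]; group
  have uniq : ∀ x ∈ R, ∀ y ∈ R, x * x = 1 → y * y = 1 → x ≠ 1 → y ≠ 1 → x = y := by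
    intro x hx y hy x2 y2 x1 y1
    by_contra hne
    let E : Subgroup G := ⟨⟨⟨{x | x ∈ R ∧ x * x = 1}, fun {x y} hx hy => ⟨mul_mem hx.1 hy.1, by
      calc x * y * (x * y) = x * (y * x) * y := by group
        _ = x * x * (y * y) := by rw [← hRc x hx.1 y hy.1]; group
        _ = 1 := by rw [hx.2, hy.2, one_mul]⟩⟩, ⟨one_mem _, one_mul 1⟩⟩,
      fun {x} hx => ⟨inv_mem hx.1, by rw [← mul_inv_rev, hx.2, inv_one]⟩⟩
    have hE : S ≤ normalizer (E : Set G) := fun g hg => mem_normalizer_of_forall fun x hx =>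
      ⟨hRn g hg x hx.1, by rw [conj_mul, hx.2]; simp⟩
    have hES : E ≤ S := fun x hx => hTS (hRT hx.1)
    obtain ⟨z, hz, z1, -, hzc⟩ := step (N := ⊥) hS hES hE (fun g _ => mem_normalizer_of_forall
      fun x hx => by simp [mem_bot.1 hx]) (fun h => x1 (mem_bot.1 (h ⟨hx, x2⟩)))
    have hzc' : ∀ g ∈ S, g * z * g⁻¹ = z := fun g hg => by
      have := mem_bot.1 (hzc g hg)
      calc g * z * g⁻¹ = g * (z * g⁻¹ * z⁻¹ * g⁻¹⁻¹) * g⁻¹ * z := by group
        _ = z := by rw [mem_bot.1 (hzc _ (inv_mem hg))]; group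
    obtain ⟨u, hu, uz, -, huc⟩ := step (N := zpowers z) hS hES hE (fun g hg => mem_normalizer_of_forall
      fun x hx => by
        rcases mem_two hz.2 hx with rfl | rfl
        · simp
        · rw [hzc' g hg]; exact mem_zpowers _) (fun h => by
          rcases mem_two hz.2 (h ⟨hx, x2⟩) with e | e
          · exact x1 e
          · exact (mem_two hz.2 (h ⟨hy, y2⟩)).elim y1 fun e' => hne (e.trans e'.symm))
    refine no4 z (hRT hz.1) u (hRT hu.1) hz.2 hu.2 (fun e => z1 (mem_bot.2 e))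
      (fun e => uz (e ▸ one_mem _)) (fun e => uz (e ▸ mem_zpowers _)) hzc' fun g hg => ?_
    have ui : u⁻¹ = u := inv_eq_of_mul_eq_one_right hu.2
    have e0 : g * u * g⁻¹ = u * (u * g * u⁻¹ * g⁻¹) := by
      rw [ui, ← mul_assoc, ← mul_assoc, ← mul_assoc, hu.2, one_mul]
    rcases mem_two hz.2 (huc g hg) with e | e <;> rw [e0, e] <;> simp
  have hR2 : IsPGroup 2 R := hS.to_le (hRT.trans hTS)
  obtain ⟨r, rfl⟩ := GW.exists_eq_zpowers (Frob.isCyclic_of_comm_of_forall_mem_zpowers (G := R)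
    ⟨⟨fun x y => Subtype.ext (hRc _ x.2 _ y.2)⟩⟩ fun p hp x y hx hy => by
      obtain ⟨k, hk⟩ := hR2 x
      obtain rfl : p = 2 := (Nat.prime_dvd_prime_iff_eq hp Nat.prime_two).1
        (hp.dvd_of_dvd_pow (hx ▸ orderOf_dvd_of_pow_eq_one hk))
      have : x = y := Subtype.ext (uniq _ x.2 _ y.2 (congrArg Subtype.val (sq_of_ord hx))
        (congrArg Subtype.val (sq_of_ord hy)) (fun e => ne_one_of_ord hx (Subtype.ext e))
        (fun e => ne_one_of_ord hy (Subtype.ext e)))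
      rw [this]; exact mem_zpowers y)
  have self' : ∀ x ∈ T, x * r * x⁻¹ = r → x ∈ zpowers r := fun x hx e => self x hx fun y hy => by
    obtain ⟨i, rfl⟩ := mem_zpowers_iff.1 hy
    rw [← mul_inv_eq_iff_eq_mul, ← conj_zpow, e]
  obtain ⟨s, hs, s2, sR⟩ : ∃ s ∈ T, s * s = 1 ∧ s ∉ zpowers r := by
    by_contra hc
    push Not at hc
    exact hab (uniq a (hc a ha a2) b (hc b hb b2) a2 b2 a1 b1)
  have r2 : r * r ≠ 1 := fun h => by
    rcases mem_two h (hRn s (hTS hs) r (mem_zpowers r)) with e | e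
    · exact sR (self' s hs (by rw [e]; exact (conj_eq_one_iff.1 e).symm))
    · exact sR (self' s hs e)
  obtain ⟨k, hk⟩ := isPGroup_iff_mem.1 hR2 r (mem_zpowers r)
  obtain ⟨y, hy⟩ := exists_cy hk r2
  have cy : ∀ x ∈ T, x * y * x⁻¹ = y → x ∈ zpowers r := fun x0 hx0 hc0 => by
    by_contra hx0R
    obtain ⟨x, ⟨hxT, hxc⟩, hxR, hx2, hxg⟩ := step (M := T ⊓ Cx y) hS
      (inf_le_left.trans hTS) (fun g hg => mem_normalizer_of_forall fun x hx => ⟨hT g hg x hx.1, by
        have := conj_mem_Cx (g := g).2 hx.2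
        rcases hy.conj (hRn g hg) with e | e <;> rw [e] at this
        · exact this
        · exact mem_Cx.2 (by simpa using (Commute.inv_right (mem_Cx.1 this)).eq)⟩) hRN
      (fun h => hx0R (h ⟨hx0, mem_Cx'.2 hc0⟩))
    have hxy : x * y * x⁻¹ = y := mem_Cx'.1 hxc
    have z2 := hy.y4
    have hz : y * y ∈ zpowers r := mul_mem hy.mem hy.mem
    have e1 : x * r * x⁻¹ = y * y * r := by
      rcases hy.sq_of_inv (hxg r (hTS (hRT (mem_zpowers r)))) hxy (by
        calc x * (x * r * x⁻¹ * r⁻¹) * x⁻¹ = (x * x * r) * x⁻¹ * x⁻¹ * x * r⁻¹ * x⁻¹ := by group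
          _ = _ := by rw [comm_zp hx2 (mem_zpowers r)]; group) with e | e
      · exact absurd (self' x hxT (mul_inv_eq_one.1 e)) hxR
      · rw [← e]; group
    have e2 : ∀ i : ℤ, x * r ^ i * x⁻¹ = (y * y) ^ i * r ^ i := fun i => by
      rw [← conj_zpow, e1, Commute.mul_zpow (comm_zp hz (mem_zpowers r))]
    have ev : ∀ i : ℤ, x * r ^ i * x⁻¹ = r ^ i → Even i := fun i e => by
      by_contra h
      rw [e2, zp_odd z2 (Int.not_even_iff_odd.1 h)] at e
      exact hy.y2 (by simpa using e)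
    obtain ⟨m, hm⟩ := mem_zpowers_iff.1 hx2
    obtain ⟨m, rfl⟩ := ev m (by rw [hm]; group)
    obtain ⟨i, hi⟩ := mem_zpowers_iff.1 hy.mem
    have e3 : ∀ j : ℤ, x * r ^ j * (x * r ^ j) = (y * y) ^ j * r ^ (j + (m + m) + j) := fun j => by
      calc x * r ^ j * (x * r ^ j) = x * r ^ j * x⁻¹ * (x * x) * r ^ j := by group
        _ = _ := by rw [e2, ← hm]; group
    obtain ⟨j, hj⟩ : ∃ j : ℤ, x * r ^ j * (x * r ^ j) = 1 := by
      rcases Int.even_or_odd m with h | h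
      · exact ⟨-m, by rw [e3, zp_even z2 h.neg]; group⟩
      · refine ⟨i - m, ?_⟩
        rw [e3, zp_odd z2 ((ev i (by rw [hi, hxy])).sub_odd h),
          show i - m + (m + m) + (i - m) = i + i by ring, zpow_add, hi, z2]
    have hj' : r ^ j ∈ zpowers r := zpow_mem_zpowers r j
    have hu : x * r ^ j ∉ zpowers r := fun h => hxR ((mul_mem_cancel_right hj').1 h)
    have huy : x * r ^ j * y * (x * r ^ j)⁻¹ = y := by
      rw [mul_assoc x, comm_zp hj' hy.mem]; nth_rewrite 2 [← hxy]; group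
    generalize hu' : x * r ^ j = u at hj hu huy
    have huT : u ∈ T := hu' ▸ mul_mem hxT (hRT hj')
    refine no4 (y * y) (hRT hz) u huT z2 hj hy.y2 (fun e => hu (e ▸ one_mem _)) (fun e => hu (e ▸ hz))
      (fun g hg => hy.conj_z (hRn g hg)) fun g hg => ?_
    have ui : u⁻¹ = u := inv_eq_of_mul_eq_one_right hj
    have hm : u * (g * u * g⁻¹) ∈ zpowers r := by
      have := mul_mem (mul_mem (hRn x (hTS hxT) _ hj') (hRn x (hTS hxT) _ (inv_mem (hxg g hg))))
        (mul_mem hx2 (hRn g hg _ hj'))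
      rw [← hu']
      convert this using 1; group
    have e0 : g * u * g⁻¹ = u * (u * (g * u * g⁻¹)) := by rw [← mul_assoc, hj, one_mul]
    rcases hy.sq_of_inv hm huy (by
      rw [mul_inv_rev, conj_inv, ui, ← e0]) with e | e <;> rw [e0, e] <;> simp
  refine ⟨r, y, s, hy, hRT (mem_zpowers r), hRn, hs, sR, s2, fun x hx => ?_⟩
  rcases hy.conj (hRn x (hTS hx)) with e | e
  · exact Or.inr (cy x hx e)
  · refine Or.inl (cy _ (mul_mem hx hs) ?_)
    have e' := (hy.conj (hRn s (hTS hs))).resolve_left fun h => sR (cy s hs h)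
    calc x * s * y * (x * s)⁻¹ = x * (s * y * s⁻¹) * x⁻¹ := by group
      _ = y := by rw [e', ← conj_inv, e, inv_inv]

/-- `A` has no subgroup of index two, is normal in `B`, and `S` is a Sylow 2-subgroup of `B`. -/
structure Cf (A B S : Subgroup G) : Prop where
  syl : IsSylowIn 2 S B
  AB : A ≤ B
  nA : B ≤ normalizer (A : Set G)
  perf : ∀ L : Subgroup G, L ≤ A → L.relIndex A ≠ 2

namespace Cf

variable {A B S : Subgroup G} (h : Cf A B S)
include h

theorem sylT : IsSylowIn 2 (S ⊓ A) A := by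
  have := h.syl.inf_of_le_normalizer h.nA
  rwa [inf_eq_right.2 h.AB] at this

omit [Finite G] in
theorem cjA {g x : G} (hg : g ∈ B) (hx : x ∈ A) : g * x * g⁻¹ ∈ A :=
  conj_mem_of_mem_normalizer (h.nA hg) hx

omit [Finite G] in
theorem cjT {g x : G} (hg : g ∈ S) (hx : x ∈ S ⊓ A) : g * x * g⁻¹ ∈ S ⊓ A :=
  ⟨S.mul_mem (S.mul_mem hg hx.1) (S.inv_mem hg), h.cjA (h.syl.le hg) hx.2⟩

theorem nT : S ≤ normalizer ((S ⊓ A : Subgroup G) : Set G) := fun _ hg =>
  mem_normalizer_of_forall fun _ hx => h.cjT hg hx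

variable {r y s : G} (c : CM S (S ⊓ A) r y s)
include c

omit [Finite G] in
theorem mul_cj {v x : G} (hv : v ∈ S) (hx : x ∈ S ⊓ A) : x * (v * x * v⁻¹) ∈ zpowers r := by
  by_cases h1 : x ∈ zpowers r
  · exact mul_mem h1 (c.nr v hv x h1)
  · have h2 : v * x * v⁻¹ ∉ zpowers r := fun h2 => h1 (by simpa [mul_assoc] using c.nr _ (inv_mem hv) _ h2)
    have := mul_mem ((c.idx x hx).resolve_right h1)
      (c.nr s c.sT.1 _ ((c.idx _ (h.cjT hv hx)).resolve_right h2))
    rwa [show x * s * (s * (v * x * v⁻¹ * s) * s⁻¹) = x * (s * s) * (v * x * v⁻¹) by group, c.s2,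
      mul_one] at this

theorem cm_sq {v : G} (hv : v ∈ S) (hs : v * s = s * v) (h2 : v * v = y * y)
    (hc : ∀ g ∈ B, g * v * g⁻¹ * v⁻¹ ∈ A) : False := by
  have hz : y * y ∈ zpowers r := mul_mem c.cy.mem c.cy.mem
  obtain ⟨k, hk, hm⟩ := thom h.sylT h.perf c.sT c.sR c.idx c.sT.2 c.s2 fun e => c.sR (e ▸ one_mem _)
  have e : k * s * k⁻¹ = y * y := (c.cy.invol hm (by rw [conj_mul, c.s2]; simp)).resolve_left
    fun e => c.sR (by rw [show s = 1 by simpa using e]; exact one_mem _)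
  refine sq h.syl (fun g hg => mem_Cx'.2 (c.cy.conj_z (c.nr g hg))) (h.AB hk) e
    (fun e => c.sR (e ▸ hz)) c.cy.y4 (h.syl.le hv) hs h2 fun g hg hm => ?_
  have := mul_mem (h.mul_cj c hv ⟨S.mul_mem hm (S.inv_mem hv), hc g hg⟩) hz
  rw [← h2, show g * v * g⁻¹ * v⁻¹ * (v * (g * v * g⁻¹ * v⁻¹) * v⁻¹) * (v * v) = g * (v * v) * g⁻¹ by group,
    h2] at this
  exact (c.cy.invol this (by rw [conj_mul, c.cy.y4]; simp)).resolve_left
    fun e => c.cy.y2 (by simpa using e)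

omit [Finite G] h in
theorem yT : y ∈ S ⊓ A := zpowers_le.2 c.rT c.cy.mem

theorem s_inv : s * y * s⁻¹ = y⁻¹ :=
  (c.cy.conj (c.nr s c.sT.1)).resolve_left fun e => h.cm_sq c (yT c).1
    (by rw [← mul_inv_eq_iff_eq_mul.1 e]) rfl fun g hg =>
      mul_mem (h.cjA hg (yT c).2) (inv_mem (yT c).2)

theorem y_s : y * s * y⁻¹ = s * (y * y) := by
  have e := h.s_inv c
  have si : s⁻¹ = s := inv_eq_of_mul_eq_one_right c.s2
  have zi : (y * y)⁻¹ = y * y := inv_eq_of_mul_eq_one_right c.cy.y4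
  calc y * s * y⁻¹ = s⁻¹ * (s * y * s⁻¹) * (s * s) * y⁻¹ := by group
    _ = s * (y * y) := by rw [e, c.s2, si, ← zi]; group

theorem dih {u : G} (hu : u ∈ S) (u2 : u * u = 1) (hy : u * y * u⁻¹ = y)
    (hc : ∀ g ∈ B, g * u * g⁻¹ * u⁻¹ ∈ A) : u * s = s * u := by
  have ui : u⁻¹ = u := inv_eq_of_mul_eq_one_right u2
  have si : s⁻¹ = s := inv_eq_of_mul_eq_one_right c.s2
  have e0 : u * s * u⁻¹ = s * (s * (u * s * u⁻¹)) := by rw [← mul_assoc, c.s2, one_mul]
  rcases c.cy.sq_of_inv (h.mul_cj c hu c.sT) hy (by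
    rw [mul_inv_rev, conj_inv, si]
    calc u * (s * (u * s * u⁻¹)) * u⁻¹ = u * s * u⁻¹ * (u * u * s * (u * u)⁻¹) := by group
      _ = _ := by rw [u2]; group) with e | e <;> rw [e] at e0
  · exact mul_inv_eq_iff_eq_mul.1 (by simpa using e0)
  · exfalso
    have hz := c.cy.conj_z (c.nr u hu)
    refine h.cm_sq c (v := u * y) (S.mul_mem hu (yT c).1) (mul_inv_eq_iff_eq_mul.1 ?_) ?_ fun g hg => ?_
    · calc u * y * s * (u * y)⁻¹ = u * (y * s * y⁻¹) * u⁻¹ := by group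
        _ = (u * s * u⁻¹) * (u * (y * y) * u⁻¹) := by rw [h.y_s c]; group
        _ = s := by rw [e0, hz, mul_assoc, c.cy.y4, mul_one]
    · calc u * y * (u * y) = u * y * u⁻¹ * (u * u) * y := by group
        _ = y * y := by rw [hy, u2, mul_one]
    · have := mul_mem (hc g hg) (h.cjA (h.syl.le hu) (mul_mem (h.cjA hg (yT c).2) (inv_mem (yT c).2)))
      convert this using 1; group

end Cf

end CfsgLib.Semi4
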