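import Cfsg.Agent.Lib.Semi4.Cyc
import Cfsg.Agent.Lib.Comp.Component
import Cfsg.Agent.Lib.LAE.Sylow

/-!
A four-group acting on a perfect group with fixed points of 2-rank one.
-/

set_option autoImplicit false

namespace CfsgLib.Semi4

open Subgroup Cfsg CfsgLib.Tech CfsgLib.W2

variable {G : Type*} [Group G]

theorem perf_of_layer [Finite G] {A : Subgroup G} (hA : layer A = ⊤) (L : Subgroup G) :
    L.relIndex A ≠ 2 := fun h => by
  have h1 : (⁅(⊤ : Subgroup A), ⊤⁆ : Subgroup A) = ⊤ := by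
    have := Comp.layer_perfect (G := A)
    rwa [hA] at this
  have h2 : (⊤ : Subgroup A) ≤ L.subgroupOf A := by
    rw [← h1, commutator_le]
    intro x _ y _
    have := fun a b => mul_mem_iff_of_index_two (H := L.subgroupOf A) h (a := a) (b := b)
    simp only [commutatorElement_def, this, inv_mem_iff]
    tauto
  rw [relIndex, top_le_iff.1 h2, index_top] at h
  omega

theorem exists_fix {U : Subgroup G} (hU : IsKleinFour U) (P : G → Prop)
    (h : ∀ a ∈ U, ∀ b ∈ U, ¬ P a → ¬ P b → P (a * b)) : ∃ w ∈ U, w ≠ 1 ∧ w * w = 1 ∧ P w := by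
  have : Finite U := Nat.finite_of_card_ne_zero (by rw [hU.card_four]; omega)
  have := Fintype.ofFinite U
  obtain ⟨a, b, c, hab, hac, hbc⟩ := (Fintype.two_lt_card_iff (α := U)).1
    (by rw [← Nat.card_eq_fintype_card, hU.card_four]; omega)
  obtain ⟨a, b, a1, b1, hab⟩ : ∃ a b : U, a ≠ 1 ∧ b ≠ 1 ∧ a ≠ b := by
    by_cases a1 : a = 1
    · exact ⟨b, c, fun e => hab (a1.trans e.symm), fun e => hac (a1.trans e.symm), hbc⟩
    · by_cases b1 : b = 1
      · exact ⟨a, c, a1, fun e => hbc (b1.trans e.symm), hac⟩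
      · exact ⟨a, b, a1, b1, hab⟩
  have sq : ∀ x : U, (x : G) * x = 1 := fun x => congrArg Subtype.val (IsKleinFour.mul_self x)
  by_cases ha : P a
  · exact ⟨a, a.2, fun e => a1 (Subtype.ext e), sq a, ha⟩
  by_cases hb : P b
  · exact ⟨b, b.2, fun e => b1 (Subtype.ext e), sq b, hb⟩
  refine ⟨a * b, (a * b).2, fun e => hab (Subtype.ext ?_), sq (a * b), h a a.2 b b.2 ha hb⟩
  rw [eq_inv_of_mul_eq_one_left e, inv_eq_of_mul_eq_one_right (sq b)]

theorem four_main [Finite G] {A U : Subgroup G} (hA : ∀ L : Subgroup G, L.relIndex A ≠ 2)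
    (hU : IsKleinFour U) (hUA : U ≤ normalizer (A : Set G))
    (hr : ∀ w ∈ U, w ≠ 1 → ∀ a ∈ A, ∀ b ∈ A, a * a = 1 → b * b = 1 → a ≠ 1 → b ≠ 1 → a * b = b * a →
      w * a = a * w → w * b = b * w → a = b) : PRankLE 2 1 A := by
  have hU2 : IsPGroup 2 U := fun x => ⟨1, by rw [pow_one, pow_two, IsKleinFour.mul_self]⟩
  obtain ⟨S, hS, hUS⟩ := exists_isSylowIn_ge (H := A ⊔ U) hU2 le_sup_right
  have h : Cf A (A ⊔ U) S := ⟨hS, le_sup_left, sup_le le_normalizer hUA, fun L _ => hA L⟩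
  refine rank_one h.sylT fun a ha b hb a2 b2 a1 b1 _ => by_contra fun hab => ?_
  obtain ⟨r, y, s, c⟩ := cyc hS.pgroup inf_le_left h.nT (fun z hz u hu z2 u2 z1 u1 uz hzc huc => by
    obtain ⟨w, hw, w1, -, e⟩ := exists_fix hU (fun w => w * u * w⁻¹ = u) fun a ha b hb h1 h2 => by
      calc a * b * u * (a * b)⁻¹ = a * (b * u * b⁻¹) * a⁻¹ := by group
        _ = u := by rw [(huc b (hUS hb)).resolve_left h2, ← conj_mul, (huc a (hUS ha)).resolve_left h1,
          hzc a (hUS ha), mul_assoc, z2, mul_one]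
    exact uz (hr w hw w1 u hu.2 z hz.2 u2 z2 u1 z1 (mul_inv_eq_iff_eq_mul.1 (hzc u hu.1))
      (mul_inv_eq_iff_eq_mul.1 e) (mul_inv_eq_iff_eq_mul.1 (hzc w (hUS hw))))) ha hb a2 b2 a1 b1 hab
  obtain ⟨w, hw, w1, w2, e⟩ := exists_fix hU (fun w => w * y * w⁻¹ = y) fun a ha b hb h1 h2 => by
    calc a * b * y * (a * b)⁻¹ = a * (b * y * b⁻¹) * a⁻¹ := by group
      _ = y := by rw [(c.cy.conj (c.nr b (hUS hb))).resolve_left h2, ← conj_inv,
        (c.cy.conj (c.nr a (hUS ha))).resolve_left h1, inv_inv]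
  have e1 := h.dih c (hUS hw) w2 e fun g hg => by
    obtain ⟨α, hα, μ, hμ, rfl⟩ := (LAE.mem_sup_iff_of_right_le_normalizer hUA).1 hg
    have : μ * w = w * μ := congrArg Subtype.val
      ((IsKleinFour.isMulCommutative (G := U)).is_comm.comm (⟨μ, hμ⟩ : U) ⟨w, hw⟩)
    have h1 := mul_mem hα (conj_mem_of_mem_normalizer (hUA hw) (inv_mem hα))
    rw [mul_assoc α, this]
    convert h1 using 1; group
  have hz : y * y ∈ zpowers r := mul_mem c.cy.mem c.cy.mem
  exact c.sR (hr w hw w1 s c.sT.2 _ (mul_mem (Cf.yT c).2 (Cf.yT c).2) c.s2 c.cy.y4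
    (fun e => c.sR (e ▸ one_mem _)) c.cy.y2 (mul_inv_eq_iff_eq_mul.1 (c.cy.conj_z (c.nr s c.sT.1))) e1
    (mul_inv_eq_iff_eq_mul.1 (c.cy.conj_z (c.nr w (hUS hw)))) ▸ hz)

theorem not_rank_zero {A B : Subgroup G} (hAB : A ≤ B) (h : ¬ PRankLE 2 0 A) : ¬ PRankLE 2 0 B :=
  fun hB => h fun E hE h2 => by
    have := hB (E.map (inclusion hAB)) inferInstance (by
      rintro _ ⟨x, hx, rfl⟩
      rw [← map_pow, h2 x hx, map_one])
    rwa [card_map_of_injective (inclusion_injective hAB)] at this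

end CfsgLib.Semi4
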