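import Cfsg.Agent.Lib.Semi4.St

/-!
The case in which the elements outside `⟨c⟩ × ⟨u⟩` have their squares in `⟨z⟩`.
-/

set_option autoImplicit false

namespace CfsgLib.Semi4

open Subgroup Cfsg CfsgLib.Tech CfsgLib.W2

variable {G : Type*} [Group G] [Finite G]

namespace St

variable {A T E : Subgroup G} {c w u b : G} (h : St A T E c w u b)
include h

theorem gamma (hb : b * b = 1 ∨ b * b = w * w) (hc : b⁻¹ * c * b = c⁻¹) : False := by
  have z2 := h.cy.y4
  have zE := h.cE h.zc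
  have zC : T ≤ Cx (w * w) := fun g hg => mem_Cx.2 (h.zT hg)
  have hsq : ∀ g ∈ A, g * w * g⁻¹ ∈ T → g * (w * w) * g⁻¹ = w * w := fun g _ hx => by
    have : g * w * g⁻¹ * (g * w * g⁻¹) = 1 ∨ g * w * g⁻¹ * (g * w * g⁻¹) = w * w := by
      by_cases hE : g * w * g⁻¹ ∈ E
      · exact h.sq4 hE (by simp only [conj_mul, z2]; simp)
      · rcases h.osq hx hE with e | e <;> rcases hb with e' | e' <;> rw [e, e'] <;> simp [z2]
    rw [conj_mul] at this
    exact this.resolve_left fun e => h.cy.y2 (conj_eq_one_iff.1 e)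
  have wT := h.ET (h.cE h.cy.mem)
  have n1 : ∀ k ∈ A, k * u * k⁻¹ ≠ w * w := fun k hk e =>
    sq h.syl zC hk e h.uz z2 (h.syl.le wT) (h.cuu h.cy.mem) rfl hsq
  have inv : ∀ x ∈ T, x ∉ E → ∀ ρ ∈ zpowers c, x * ρ * x⁻¹ = ρ⁻¹ := fun x hx hE ρ hρ => by
    obtain ⟨y, hy, e⟩ := h.two (inv_mem hx) (fun e => hE (inv_mem_iff.1 e))
    obtain ⟨i, rfl⟩ := mem_zpowers_iff.1 hρ
    have e1 : b⁻¹ * c ^ i * b = (c ^ i)⁻¹ := by
      have := conj_zpow (a := b⁻¹) (b := c) (i := i)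
      rw [inv_inv, hc, inv_zpow] at this; exact this.symm
    calc _ = y⁻¹ * (b⁻¹ * c ^ i * b) * y := by rw [← inv_inv x, e]; group
      _ = _ := by rw [e1, mul_assoc, h.comm (inv_mem (h.cE hρ)) hy]; group
  have uu : ∀ x ∈ T, u * (x * u * x⁻¹) ∈ zpowers c := fun x hx => by
    by_cases hE : x ∈ E
    · rw [h.comm hE h.uE, mul_inv_cancel_right, h.u2]; exact one_mem _
    · obtain ⟨y, hy, e⟩ := h.two (inv_mem hx) (fun e => hE (inv_mem_iff.1 e))
      have : x * u * x⁻¹ = y⁻¹ * (b⁻¹ * u * b) * y := by rw [← inv_inv x, e]; group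
      rcases h.bu with e1 | e1 <;> rw [this, e1, mul_assoc]
      · rw [h.comm h.uE hy, inv_mul_cancel_left, h.u2]; exact one_mem _
      · rw [h.comm (mul_mem h.uE zE) hy, inv_mul_cancel_left, ← mul_assoc, h.u2, one_mul]; exact h.zc
  have fus : ∀ c' b', c' ∈ E → (c' = c ∨ c' = c * u) → b' ∈ T → b' ∉ E → b' * c' * b'⁻¹ = c'⁻¹ →
      b' * b' ∈ zpowers c → (b' * b' = 1 ∨ b' * b' = w * w) →
      ∃ k ∈ A, ∃ i : ℤ, k * u * k⁻¹ = c' ^ i * b' := fun c' b' hc' e hb' hE hi _ h2 => by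
    have cc : c' * c' = c * c := by
      rcases e with rfl | rfl
      · rfl
      · rw [mul_assoc, ← mul_assoc u, ← h.cu, mul_assoc, h.u2, mul_one]
    have hle : zpowers c' ≤ E := zpowers_le.2 hc'
    have zc' : w * w ∈ zpowers c' := by
      obtain ⟨i, hi⟩ := mem_zpowers_iff.1 h.cy.mem
      rw [← hi, ← zpow_add, ← two_mul, zpow_mul, zpow_two, ← cc]
      exact zpow_mem (mul_mem (mem_zpowers _) (mem_zpowers _)) i
    obtain ⟨n, hn⟩ := isPGroup_iff_mem.1 h.syl.pgroup c' (h.ET hc')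
    obtain ⟨w', cy⟩ := exists_cy hn (by
      rw [cc]; intro e
      rcases mem_two e h.cy.mem with e' | e' <;> exact h.cy.y2 (by rw [e']; simp [e]))
    have ww : w * w = w' * w' := (cy.invol zc' z2).resolve_left h.cy.y2
    have cm : ∀ ρ ∈ zpowers c, ρ ∈ zpowers c' ∨ ρ * u ∈ zpowers c' := fun ρ hρ => by
      rcases e with rfl | rfl
      · exact Or.inl hρ
      · obtain ⟨i, rfl⟩ := mem_zpowers_iff.1 hρ
        have := zpow_mem_zpowers (c * u) i
        rw [Commute.mul_zpow h.cu] at this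
        rcases Int.even_or_odd i with hi | hi
        · rw [zp_even h.u2 hi, mul_one] at this; exact Or.inl this
        · rw [zp_odd h.u2 hi] at this; exact Or.inr this
    have cm' : ∀ x ∈ E, x * u ∈ zpowers c' ∨ x ∈ zpowers c' := fun x hx => by
      obtain ⟨ρ, hρ, rfl | rfl⟩ := h.cs hx
      · exact (cm _ hρ).symm
      · rw [mul_assoc, h.u2, mul_one]; exact cm _ hρ
    have uc' : u ∉ zpowers c' := fun e => ((cy.invol e h.u2).elim h.u1 fun e => h.uz (e.trans ww.symm))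
    obtain ⟨M, hM⟩ := ext_two (H := zpowers c') (b := b') (fun x hx => by
      obtain ⟨i, rfl⟩ := mem_zpowers_iff.1 hx
      rw [← conj_zpow, hi, inv_zpow]; exact inv_mem hx) (by
      rcases h2 with e | e <;> rw [e]
      exacts [one_mem _, zc'])
    obtain ⟨k, hk, hm⟩ := thom (M := M) h.syl h.perf h.uT (fun e => ((hM u).1 e).elim uc' fun e =>
      hE (by simpa using (mul_mem_cancel_left h.uE).1 (hle e))) (fun x hx => by
        by_cases hxE : x ∈ E
        · exact (cm' x hxE).imp (fun e => (hM _).2 (Or.inl e)) fun e => (hM _).2 (Or.inl e)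
        · rcases cm' _ (h.mulE hx (inv_mem hb') hxE (by simpa using hE)) with e | e
          · refine Or.inl ((hM _).2 (Or.inr ?_))
            have e1 : u * (b' * u * b'⁻¹) ∈ zpowers c' := by
              rcases h.cy.invol (uu b' hb') (by
                have a := h.comm h.uE ((mul_mem_cancel_left h.uE).1 (h.cE (uu b' hb')))
                rw [mul_assoc, ← mul_assoc _ u, ← a, mul_assoc u, conj_mul, h.u2]; simp [h.u2]) with e | e <;>
                rw [e]
              exacts [one_mem _, zc']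
            have := mul_mem e e1
            rwa [show x * b'⁻¹ * u * (u * (b' * u * b'⁻¹)) = x * b'⁻¹ * (u * u) * b' * u * b'⁻¹ by group, h.u2,
              mul_one, inv_mul_cancel_right] at this
          · exact Or.inr ((hM _).2 (Or.inr e))) (h.syl.le h.uT) h.u2 h.u1
    rcases (hM _).1 hm with e | e
    · exact ((cy.invol e (by rw [conj_mul, h.u2]; simp)).elim (fun e => h.u1 (conj_eq_one_iff.1 e))
        fun e => n1 k hk (e.trans ww.symm)).elim
    · obtain ⟨i, hi⟩ := mem_zpowers_iff.1 e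
      exact ⟨k, hk, i, by rw [hi]; group⟩
  have noQ : ∀ b' ∈ T, b' ∉ E → b' * b' ≠ w * w := fun b' hb' hE e => by
    obtain ⟨k, -, i, e1⟩ := fus c b' (h.cE (mem_zpowers c)) (Or.inl rfl) hb' hE
      (inv b' hb' hE c (mem_zpowers c)) (e ▸ h.zc) (Or.inr e)
    refine h.cy.y2 ?_
    calc w * w = c ^ i * (b' * c ^ i * b'⁻¹) * (b' * b') := by
          rw [inv b' hb' hE _ (zpow_mem_zpowers c i), e]; group
      _ = k * (u * u) * k⁻¹ := by rw [← conj_mul, e1]; group
      _ = 1 := by rw [h.u2]; simp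
  have b2 : b * b = 1 := hb.resolve_right (noQ b h.bT h.bE)
  have o2 : ∀ x ∈ T, x ∉ E → x * x = 1 := fun x hx hE => by
    rcases h.osq hx hE with e | e
    · rw [e, b2]
    · exact absurd (by rw [e, b2, one_mul]) (noQ x hx hE)
  have uC : T ≤ Cx u := fun x hx => mem_Cx.2 (by
    by_cases hE : x ∈ E
    · exact h.comm hE h.uE
    · have e := o2 _ (mul_mem hx h.uT) fun e => hE ((mul_mem_cancel_right h.uE).1 e)
      rw [eq_inv_of_mul_eq_one_left e, mul_inv_rev, h.ui, inv_eq_of_mul_eq_one_right (o2 x hx hE)])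
  have n2 : ∀ k ∈ A, k * u * k⁻¹ ≠ u * (w * w) := fun k hk e => by
    obtain ⟨n, hn, hN, e1⟩ := exists_normalizer_conj h.syl hk uC (by
      rw [e]; exact fun g hg => mem_Cx.2 (by
        rw [← mul_assoc, mem_Cx.1 (uC hg), mul_assoc, h.zT hg, ← mul_assoc u]))
    rw [e] at e1
    have e2 := hsq n hn (conj_mem_of_mem_normalizer hN wT)
    have e3 : Commute (n * n) u := by
      refine mul_inv_eq_iff_eq_mul.1 ?_
      calc _ = n * (n * u * n⁻¹) * n⁻¹ := by group
        _ = u := by rw [e1, ← conj_mul, e1, e2, mul_assoc, z2, mul_one]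
    obtain ⟨a, m, hm, e4⟩ := Nat.exists_eq_two_pow_mul_odd (orderOf_pos n).ne'
    have hT : n ^ m ∈ T := h.syl.le_of_normalizes (isPGroup_zpowers_of_pow (k := a) (by
      rw [← pow_mul, mul_comm, ← e4, pow_orderOf_eq_one])) (zpowers_le.2 (pow_mem hn m))
      (zpowers_le.2 (pow_mem hN m)) (mem_zpowers _)
    obtain ⟨j, rfl⟩ := hm
    have e5 := mem_Cx.1 (uC hT)
    rw [pow_succ', pow_mul, pow_two, mul_assoc, (e3.pow_left j).eq, ← mul_assoc, ← mul_assoc] at e5
    rw [mul_right_cancel e5] at e1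
    exact h.cy.y2 (by simpa using e1.symm)
  have fin : ∀ s ∈ T, s ∉ E → (∃ k ∈ A, k * u * k⁻¹ = s) → (∃ k ∈ A, k * u * k⁻¹ = s * u) → False := by
    rintro s hs hE ⟨k, hk, e⟩ ⟨k', hk', e'⟩
    have wA := h.syl.le wT
    have ws : w * s * w⁻¹ = s * (w * w) := by
      calc _ = w * (s * w * s⁻¹)⁻¹ * s := by group
        _ = _ := by rw [inv s hs hE w h.cy.mem, inv_inv, h.zT hs]
    have f1 : w * k * u * (w * k)⁻¹ = s * (w * w) := by rw [← ws, ← e]; group
    have f2 : w * k' * u * (w * k')⁻¹ = s * (w * w * u) := by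
      calc _ = w * (k' * u * k'⁻¹) * w⁻¹ := by group
        _ = _ := by rw [e', ← conj_mul, ws, h.cuu h.cy.mem]; group
    obtain ⟨g, hg, g1, hP⟩ := ext h.syl uC (inv_mem hk) (s := s) (by rw [← e]; group) (P := T ⊓ Cx s)
      (h.syl.pgroup.to_le inf_le_left) (inf_le_left.trans h.syl.le) inf_le_right
    have zT := hP _ ⟨h.ET zE, mem_Cx.2 (h.zT hs).symm⟩
    have uT := hP _ ⟨h.uT, mem_Cx.2 (mem_Cx.1 (uC hs)).symm⟩
    have key : ∀ x l, l ∈ A → l * u * l⁻¹ = s * x → x * x = 1 → x ≠ 1 → x ∈ E → g * x * g⁻¹ ∉ E := by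
      intro x l hl e x2 x1 xE hx
      have e1 : g * l * u * (g * l)⁻¹ = u * (g * x * g⁻¹) := by
        calc _ = g * (l * u * l⁻¹) * g⁻¹ := by group
          _ = _ := by rw [e, ← conj_mul, g1]
      rcases h.invE hx (by rw [conj_mul, x2]; simp) with e2 | e2 | e2 | e2
      · exact x1 (conj_eq_one_iff.1 e2)
      · exact n2 _ (mul_mem hg hl) (by rw [e1, e2])
      · exact hE ((by simpa using g1.trans e2.symm : s = x) ▸ xE)
      · exact n1 _ (mul_mem hg hl) (by rw [e1, e2, ← mul_assoc, h.u2, one_mul])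
    refine key (w * w * u) _ (mul_mem wA hk') f2 (by
      rw [mul_assoc, ← mul_assoc u, ← h.cuu h.zc, mul_assoc (w * w) u, h.u2, mul_one, z2])
      (fun e => h.uz (by rw [eq_inv_of_mul_eq_one_right e, h.zi])) (mul_mem zE h.uE) ?_
    rw [← conj_mul]
    exact h.mulE zT uT (key _ _ (mul_mem wA hk) f1 z2 h.cy.y2 zE) (key _ _ hk' e' h.u2 h.u1 h.uE)
  have cE := h.cE (mem_zpowers c)
  have red : ∀ ω ω', (ω = 1 ∨ ω = u) → (ω' = 1 ∨ ω' = u) →
      (∃ k ∈ A, k * u * k⁻¹ = b * ω) ∨ ∃ k ∈ A, k * u * k⁻¹ = c * b * ω' := fun ω ω' h1 h2 => by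
    have ωE : ω ∈ E := by rcases h1 with rfl | rfl; exacts [one_mem _, h.uE]
    have ωE' : ω' ∈ E := by rcases h2 with rfl | rfl; exacts [one_mem _, h.uE]
    have hT : b * ω ∈ T := mul_mem h.bT (h.ET ωE)
    have hE : b * ω ∉ E := fun e => h.bE ((mul_mem_cancel_right ωE).1 e)
    have hc' : c * (ω' * ω) = c ∨ c * (ω' * ω) = c * u := by
      rcases h1 with rfl | rfl <;> rcases h2 with rfl | rfl <;> simp [h.u2]
    have hi : b * ω * (c * (ω' * ω)) * (b * ω)⁻¹ = (c * (ω' * ω))⁻¹ := by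
      rcases hc' with e | e <;> rw [e]
      · exact inv _ hT hE c (mem_zpowers c)
      · rw [← conj_mul, inv _ hT hE c (mem_zpowers c), mem_Cx'.1 (uC hT), mul_inv_rev, h.ui,
          h.cuu (inv_mem (mem_zpowers c))]
    have c'E : c * (ω' * ω) ∈ E := mul_mem cE (mul_mem ωE' ωE)
    have e0 : c * (ω' * ω) * (b * ω) = c * b * ω' := by
      have ub := mem_Cx.1 (uC h.bT)
      rcases h1 with rfl | rfl <;> rcases h2 with rfl | rfl
      · simp
      · simp [mul_assoc, ub]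
      · rw [one_mul, mul_assoc, ub, ← mul_assoc ω, h.u2]; simp
      · simp [h.u2, mul_assoc]
    obtain ⟨k, hk, i, e⟩ := fus _ _ c'E hc' hT hE hi (by rw [o2 _ hT hE]; exact one_mem _)
      (Or.inl (o2 _ hT hE))
    generalize c * (ω' * ω) = c' at hi c'E e0 e
    have hj : ∀ j : ℤ, (c' ^ j)⁻¹ * k ∈ A := fun j => mul_mem (inv_mem (h.syl.le (h.ET (zpow_mem c'E j)))) hk
    have e1 : ∀ j : ℤ, b * ω * c' ^ j = (c' ^ j)⁻¹ * (b * ω) := fun j => by
      rw [← mul_inv_eq_iff_eq_mul, ← conj_zpow, hi, inv_zpow]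
    rcases Int.even_or_odd' i with ⟨j, rfl | rfl⟩
    · refine Or.inl ⟨_, hj j, ?_⟩
      calc _ = (c' ^ j)⁻¹ * (k * u * k⁻¹) * c' ^ j := by group
        _ = _ := by rw [e, mul_assoc, mul_assoc, e1]; group
    · refine Or.inr ⟨_, hj j, ?_⟩
      calc _ = (c' ^ j)⁻¹ * (k * u * k⁻¹) * c' ^ j := by group
        _ = _ := by rw [e, mul_assoc, mul_assoc, e1, ← e0]; group
  have cbT : c * b ∈ T := mul_mem h.cT h.bT
  have cbE : c * b ∉ E := fun e => h.bE ((mul_mem_cancel_left cE).1 e)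
  by_cases p1 : ∃ k ∈ A, k * u * k⁻¹ = b * 1
  · by_cases p2 : ∃ k ∈ A, k * u * k⁻¹ = b * u
    · exact fin b h.bT h.bE (by simpa using p1) p2
    · exact fin _ cbT cbE (by simpa using (red u 1 (Or.inr rfl) (Or.inl rfl)).resolve_left p2)
        ((red u u (Or.inr rfl) (Or.inr rfl)).resolve_left p2)
  · exact fin _ cbT cbE (by simpa using (red 1 1 (Or.inl rfl) (Or.inl rfl)).resolve_left p1)
      ((red 1 u (Or.inl rfl) (Or.inr rfl)).resolve_left p1)

end St

end CfsgLib.Semi4
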