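import Cfsg.Agent.Lib.Semi4.Four
import Cfsg.Agent.Lib.Block.FrobSyl3
import Cfsg.Agent.Lib.TwoGrp.Pres
import Cfsg.Agent.Lib.PGroup.MaxClass
import Cfsg.Agent.S0205

/-!
An involution with two fixed points on a section, and Brauer's theorem for a perfect group.
-/

set_option autoImplicit false

namespace CfsgLib.Semi4

open Subgroup Cfsg CfsgLib.Tech CfsgLib.W2

theorem inv_gen {H : Type*} [Group H] [Finite H] (hH : IsPGroup 2 H) {τ η : H} (τ2 : τ * τ = 1)
    {N : Subgroup H} (τN : τ ∉ N) (hN : ∀ x, x * τ ∈ N ∨ x ∈ N)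
    (hc : ∀ x ∈ N, τ * x * τ⁻¹ = x → x = 1 ∨ x = η) :
    ∃ b ∈ N, ∀ x ∈ N, x ∈ zpowers (b⁻¹ * (τ * b * τ⁻¹)) ∨ b⁻¹ * x ∈ zpowers (b⁻¹ * (τ * b * τ⁻¹)) := by
  have hi : N.index = 2 := index_eq_two_iff_exists_notMem_and.2 ⟨τ, τN, hN⟩
  have hDN : commutator H ≤ N := by
    rw [commutator_def, commutator_le]
    intro x _ y _
    have := fun a b => mul_mem_iff_of_index_two hi (a := a) (b := b)
    simp only [commutatorElement_def, this, inv_mem_iff]
    tauto
  have hf : ∀ x, x⁻¹ * (τ * x * τ⁻¹) ∈ commutator H := fun x => by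
    have := commutator_mem_commutator (mem_top x⁻¹) (mem_top τ)
    rwa [commutatorElement_def, inv_inv, mul_assoc, mul_assoc, ← mul_assoc τ] at this
  by_cases hb : N ≤ commutator H
  · have : zpowers τ = ⊤ := PGroup.eq_top_of_sup_commutator_eq_top hH (eq_top_iff.2 fun x _ => by
      rcases hN x with h | h
      · exact (mul_mem_cancel_right (mem_sup_left (mem_zpowers τ))).1 (mem_sup_right (hb h))
      · exact mem_sup_right (hb h))
    refine ⟨1, one_mem _, fun x hx => Or.inl ?_⟩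
    rcases mem_two τ2 (this.ge (mem_top x)) with rfl | rfl
    · exact one_mem _
    · exact absurd hx τN
  obtain ⟨b0, hb0, hb0D⟩ := SetLike.not_le_iff_exists.1 hb
  classical
  let f : N → commutator H := fun x => ⟨_, hf x⟩
  have fib : ∀ x y : N, f x = f y → (x : H) * (y : H)⁻¹ = 1 ∨ (x : H) * (y : H)⁻¹ = η := fun x y e =>
    hc _ (mul_mem x.2 (inv_mem y.2)) (by
      have e' : (x : H)⁻¹ * (τ * x * τ⁻¹) = (y : H)⁻¹ * (τ * y * τ⁻¹) := congrArg Subtype.val e
      calc τ * ((x : H) * (y : H)⁻¹) * τ⁻¹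
          = x * ((x : H)⁻¹ * (τ * x * τ⁻¹)) * (τ * y * τ⁻¹)⁻¹ := by group
        _ = _ := by rw [e']; group)
  have h1 : Nat.card N ≤ Nat.card (Set.range f × Bool) := by
    refine Nat.card_le_card_of_injective (fun x => (⟨f x, x, rfl⟩,
      decide (x = (Set.mem_range_self (f := f) x).choose))) fun x y e => ?_
    have e1 : f x = f y := congrArg Subtype.val (congrArg Prod.fst e)
    have e2 : (x = (Set.mem_range_self (f := f) x).choose) ↔ (y = (Set.mem_range_self (f := f) y).choose) := by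
      simpa using congrArg Prod.snd e
    have e3 : (Set.mem_range_self (f := f) x).choose = (Set.mem_range_self (f := f) y).choose := by
      simp only [e1]
    have s1 := (Set.mem_range_self (f := f) x).choose_spec
    rw [← e3] at e2
    generalize (Set.mem_range_self (f := f) x).choose = w at e2 s1
    by_cases hx : x = w
    · rw [hx, e2.1 hx]
    · rcases fib x w s1.symm with h | h
      · exact absurd (Subtype.ext (mul_inv_eq_one.1 h)) hx
      · rcases fib y w (e1.symm.trans s1.symm) with h' | h'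
        · exact absurd (e2.2 (Subtype.ext (mul_inv_eq_one.1 h'))) hx
        · exact Subtype.ext (mul_right_cancel (h.trans h'.symm))
  rw [Nat.card_prod, Nat.card_eq_fintype_card (α := Bool), Fintype.card_bool] at h1
  have h2 := card_mul_relIndex' hDN
  have h3 : (commutator H).relIndex N ≠ 1 := fun h => hb (relIndex_eq_one.1 h)
  have h4 : (commutator H).relIndex N ≠ 0 := index_ne_zero_of_finite
  have h5 : Nat.card (Set.range f) ≤ Nat.card (commutator H) := Nat.card_le_card_of_injective _ Subtype.val_injective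
  have h6 : 0 < Nat.card (commutator H) := Nat.card_pos
  have h7 : (commutator H).relIndex N = 2 := by
    by_contra h
    have : 3 ≤ (commutator H).relIndex N := by omega
    nlinarith
  have surj : Function.Surjective f := by
    rw [← Set.range_eq_univ]
    refine Set.eq_of_subset_of_ncard_le (Set.subset_univ _) ?_
    rw [Set.ncard_univ, ← Nat.card_coe_set_eq]
    rw [h7] at h2
    omega
  have hinv : ∀ d ∈ commutator H, τ * d * τ⁻¹ = d⁻¹ := fun d hd => by
    obtain ⟨x, hx⟩ := surj ⟨d, hd⟩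
    rw [← show (x : H)⁻¹ * (τ * x * τ⁻¹) = d from congrArg Subtype.val hx]
    calc τ * ((x : H)⁻¹ * (τ * x * τ⁻¹)) * τ⁻¹ = τ * (x : H)⁻¹ * (τ * x * (τ * τ)⁻¹) := by group
      _ = τ * (x : H)⁻¹ * (τ * τ * τ⁻¹ * x * (τ * τ)⁻¹) := by group
      _ = _ := by rw [τ2]; group
  obtain ⟨c, hc0⟩ := GW.exists_eq_zpowers (Frob.isCyclic_of_comm_of_forall_mem_zpowers (G := commutator H)
    ⟨⟨fun x y => Subtype.ext (by
      have := hinv _ (x * y).2
      rw [coe_mul, ← conj_mul, hinv _ x.2, hinv _ y.2, ← mul_inv_rev] at this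
      exact (inv_injective this).symm)⟩⟩ fun p hp x y hx hy => by
      obtain ⟨k, hk⟩ := hH x
      obtain rfl : p = 2 := (Nat.prime_dvd_prime_iff_eq hp Nat.prime_two).1
        (hp.dvd_of_dvd_pow (hx ▸ orderOf_dvd_of_pow_eq_one (Subtype.ext hk)))
      have key : ∀ x : commutator H, orderOf x = 2 → (x : H) = η := fun x hx =>
        (hc _ (hDN x.2) ((hinv _ x.2).trans (inv_eq_of_mul_eq_one_right
          (congrArg Subtype.val (sq_of_ord hx))))).resolve_left fun e => ne_one_of_ord hx (Subtype.ext e)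
      rw [show y = x from Subtype.ext ((key y hy).trans (key x hx).symm)]; exact mem_zpowers x)
  have two : ∀ b ∈ N, b ∉ commutator H → ∀ x ∈ N, x ∈ commutator H ∨ b⁻¹ * x ∈ commutator H := by
    intro b hb hbD x hx
    have := mul_mem_iff_of_index_two (H := (commutator H).subgroupOf N) h7 (a := ⟨b, hb⟩⁻¹) (b := ⟨x, hx⟩)
    simp only [mem_subgroupOf, coe_mul, coe_inv, inv_mem_iff] at this
    tauto
  obtain ⟨b, e⟩ := surj ⟨c, hc0 ▸ mem_zpowers c⟩
  have e' : (b : H)⁻¹ * (τ * b * τ⁻¹) = c := congrArg Subtype.val e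
  by_cases hbD : (b : H) ∈ commutator H
  · have c1 : c = 1 := by
      rw [hinv _ hbD] at e'
      obtain ⟨i, hi⟩ := mem_zpowers_iff.1 (hc0 ▸ hbD)
      obtain ⟨k, hk⟩ := hH c
      have h8 : c ^ (2 * i + 1) = 1 := by
        rw [zpow_add, two_mul, zpow_add, hi, zpow_one, ← e']; group
      rcases chain hk (mem_zpowers c) (one_mem _) with h | -
      · simpa using h
      have h9 := orderOf_dvd_iff_zpow_eq_one.2 h8
      obtain ⟨j, -, hj⟩ := (Nat.dvd_prime_pow Nat.prime_two).1 (orderOf_dvd_of_pow_eq_one hk)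
      rcases j with _ | j
      · exact orderOf_eq_one_iff.1 hj
      · rw [hj] at h9
        have : (2 : ℤ) ∣ 2 * i + 1 := (Dvd.intro_left _ (by push_cast; rw [pow_succ])).trans h9
        omega
    refine ⟨b0, hb0, fun x hx => ?_⟩
    have := two b0 hb0 hb0D x hx
    rw [hc0, c1, zpowers_one_eq_bot] at this
    exact this.imp (fun h => by rw [mem_bot.1 h]; exact one_mem _) fun h => by rw [mem_bot.1 h]; exact one_mem _
  · exact ⟨b, b.2, fun x hx => by rw [e', ← hc0]; exact two b b.2 hbD x hx⟩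

variable {G : Type*} [Group G] [Finite G]

theorem inv_mod {S T U : Subgroup G} (hS : IsPGroup 2 S) (hTS : T ≤ S) (hUT : U ≤ T)
    (hU : S ≤ normalizer (U : Set G)) {t y : G} (ht : t ∈ S) (t2 : t * t = 1) (tT : t ∉ T)
    (hT : ∀ x ∈ S, x * t ∈ T ∨ x ∈ T) (hy : y ∈ T)
    (hc : ∀ x ∈ T, x⁻¹ * (t * x * t⁻¹) ∈ U → x ∈ U ∨ y⁻¹ * x ∈ U) :
    ∃ b ∈ T, ∀ x ∈ T, (∃ i : ℤ, ∃ w ∈ U, x = (b⁻¹ * (t * b * t⁻¹)) ^ i * w) ∨
      ∃ i : ℤ, ∃ w ∈ U, b⁻¹ * x = (b⁻¹ * (t * b * t⁻¹)) ^ i * w := by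
  have := normal_subgroupOf_of_le_normalizer hU
  let π := QuotientGroup.mk' (U.subgroupOf S)
  have hπ : ∀ a b : S, π a = π b ↔ (a : G)⁻¹ * b ∈ U := fun a b => QuotientGroup.eq
  have hm : ∀ a : S, π a ∈ (T.subgroupOf S).map π ↔ (a : G) ∈ T := fun a =>
    ⟨fun ⟨b, hb, e⟩ => (mul_mem_cancel_left (inv_mem hb)).1 (hUT ((hπ b a).1 e)), fun h => ⟨a, h, rfl⟩⟩
  obtain ⟨_, ⟨b, hb, rfl⟩, h⟩ := inv_gen (hS.to_quotient (U.subgroupOf S)) (τ := π ⟨t, ht⟩)
    (η := π ⟨y, hTS hy⟩) (N := (T.subgroupOf S).map π)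
    (by rw [← map_mul, ← map_one π]; exact congrArg π (Subtype.ext t2)) (fun h => tT ((hm _).1 h))
    (fun x => by
      obtain ⟨x, rfl⟩ := QuotientGroup.mk'_surjective _ x
      rw [← map_mul, hm, hm]; exact hT x x.2) (by
      rintro _ ⟨x, hx, rfl⟩ e
      rw [← map_inv, ← map_mul, ← map_mul, eq_comm, hπ] at e
      rcases hc x hx e with h | h
      · exact Or.inl (by rw [← map_one π, eq_comm, hπ]; simpa using h)
      · exact Or.inr (by rw [eq_comm, hπ]; exact h))
  refine ⟨b, hb, fun x hx => ?_⟩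
  have key : ∀ a : S, π a ∈ zpowers ((π b)⁻¹ * (π ⟨t, ht⟩ * π b * (π ⟨t, ht⟩)⁻¹)) →
      ∃ i : ℤ, ∃ w ∈ U, (a : G) = ((b : G)⁻¹ * (t * b * t⁻¹)) ^ i * w := fun a ha => by
    obtain ⟨i, hi⟩ := mem_zpowers_iff.1 ha
    rw [← map_inv, ← map_inv, ← map_mul, ← map_mul, ← map_mul, ← map_zpow, hπ] at hi
    exact ⟨i, _, hi, by simp⟩
  rcases h _ ((hm ⟨x, hTS hx⟩).2 hx) with e | e
  · exact Or.inl (key _ e)
  · rw [← map_inv, ← map_mul] at e
    exact Or.inr (key _ e)

theorem brauer {A T : Subgroup G} (hA : layer A = ⊤) (hT : IsSylowIn 2 T A)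
    (hc : ∀ a ∈ T, ∀ b ∈ T, a * b = b * a) {z u y : G} (hz : z ∈ T) (hu : u ∈ T) (z2 : z * z = 1)
    (u2 : u * u = 1) (z1 : z ≠ 1) (u1 : u ≠ 1) (uz : u ≠ z) (hy : y ∈ T) (y2 : y * y ≠ 1)
    (h : ∀ x ∈ T, x * x = 1 → x = 1 ∨ x = z ∨ x = u ∨ x = u * z) : False := by
  have h1 : (⁅(⊤ : Subgroup A), ⊤⁆ : Subgroup A) = ⊤ := by
    have := Comp.layer_perfect (G := A)
    rwa [hA] at this
  let P := hT.toSylow
  have hm : ∀ x : A, x ∈ (P : Subgroup A) ↔ (x : G) ∈ T := fun x => hT.mem_toSylow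
  have hcP : ∀ a ∈ (P : Subgroup A), ∀ b ∈ (P : Subgroup A), a * b = b * a := fun a ha b hb =>
    Subtype.ext (hc _ ((hm a).1 ha) _ ((hm b).1 hb))
  let V : Subgroup A := ⟨⟨⟨{x | x ∈ (P : Subgroup A) ∧ x ^ 2 = 1}, fun {x y} hx hy => ⟨mul_mem hx.1 hy.1, by
    rw [(show Commute x y from hcP x hx.1 y hy.1).mul_pow, hx.2, hy.2, one_mul]⟩⟩, ⟨one_mem _, one_pow 2⟩⟩,
    fun {x} hx => ⟨inv_mem hx.1, by rw [inv_pow, hx.2, inv_one]⟩⟩
  have hV : IsKleinFour V := TwoGrp.isKleinFour_of_mem_iff (a := ⟨u, hT.le hu⟩) (b := ⟨z, hT.le hz⟩)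
    (Subtype.ext u2) (Subtype.ext z2) (Subtype.ext (hc u hu z hz)) (fun e => u1 (congrArg Subtype.val e))
    (fun e => z1 (congrArg Subtype.val e)) (fun e => uz (congrArg Subtype.val e)) fun g => by
      constructor
      · rintro ⟨h1, h2⟩
        rcases h g ((hm g).1 h1) (by rw [← pow_two]; exact congrArg Subtype.val h2) with e | e | e | e
        exacts [Or.inl (Subtype.ext e), Or.inr (Or.inr (Or.inl (Subtype.ext e))),
          Or.inr (Or.inl (Subtype.ext e)), Or.inr (Or.inr (Or.inr (Subtype.ext e)))]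
      · have a1 : (⟨u, hT.le hu⟩ : A) ∈ V := ⟨(hm _).2 hu, Subtype.ext (by simpa [pow_two] using u2)⟩
        have a2 : (⟨z, hT.le hz⟩ : A) ∈ V := ⟨(hm _).2 hz, Subtype.ext (by simpa [pow_two] using z2)⟩
        rintro (rfl | rfl | rfl | rfl)
        exacts [one_mem _, a1, a2, mul_mem a1 a2]
  have hF : Block.FourOmega (P : Subgroup A) := ⟨hcP, V, hV, fun _ => Iff.rfl⟩
  have h4 : 4 < Nat.card (P : Subgroup A) := by
    rw [← hV.card_four]
    refine Set.ncard_lt_ncard (s := (V : Set A)) (t := ((P : Subgroup A) : Set A)) ⟨fun x hx => hx.1, fun hh => y2 ?_⟩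
    have := (hh (show (⟨y, hT.le hy⟩ : A) ∈ (P : Subgroup A) from (hm _).2 hy)).2
    rw [← pow_two]; exact congrArg Subtype.val this
  have key : ∀ (K : Subgroup A) [K.Normal], Group.IsSolvable (A ⧸ K) → K = ⊤ := fun K _ hs => by
    have := Comp.eq_bot_of_perfect_of_solvable (L := (⊤ : Subgroup (A ⧸ K))) (by
      have := congrArg (map (QuotientGroup.mk' K)) h1
      rwa [map_commutator, map_top_of_surjective _ (QuotientGroup.mk'_surjective K)] at this) inferInstance
    exact QuotientGroup.subsingleton_iff.1 (subsingleton_iff.1 (subsingleton_iff_bot_eq_top.1 this.symm))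
  rcases hF.relIndex_eq P with h1 | h3
  · obtain ⟨k, hk⟩ := Block.index_pPrimeCore_of_hasNormalPComplement
      (Transfer.burnside_normal_complement P (relIndex_eq_one.1 h1))
    have h5 := (IsPGroup.of_card (G := A ⧸ pPrimeCore 2 A) hk).isNilpotent
    have h6 : Odd (Nat.card (pPrimeCore 2 A)) := Core.odd_card_oddCore A
    rw [key (pPrimeCore 2 A) inferInstance, card_top] at h6
    obtain ⟨j, hj⟩ := IsPGroup.iff_card.1 P.isPGroup'
    have h7 := Odd.of_dvd_nat h6 (card_subgroup_dvd_card (P : Subgroup A))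
    rw [hj] at h4 h7
    rcases j with _ | j
    · omega
    · exact Nat.not_even_iff_odd.2 h7 (Even.pow_of_ne_zero even_two (Nat.succ_ne_zero j))
  · obtain ⟨K, hK, hne, hPK⟩ := (hF.frobSyl P).exists_normal_of_three h3 h4
    refine hne (key K (Cfsg.Agent.S0205.result ?_))
    rw [← Nat.not_even_iff_odd, even_iff_two_dvd]
    exact fun h => P.not_dvd_index (h.trans (index_dvd_of_le hPK))

end CfsgLib.Semi4
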