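import Cfsg.Agent.Lib.Semi4.Gam

/-!
An involution whose fixed points in a semisimple group have cyclic Sylow 2-subgroups of order four.
-/

set_option autoImplicit false

namespace CfsgLib.Semi4

open Subgroup Cfsg CfsgLib.Tech CfsgLib.W2

variable {G : Type*} [Group G] [Finite G]

namespace Tf

variable {A B S : Subgroup G} {t y : G} (h : Tf A B S t y)
include h

theorem no4 : ∀ z ∈ S ⊓ A, ∀ u ∈ S ⊓ A, z * z = 1 → u * u = 1 → z ≠ 1 → u ≠ 1 → u ≠ z →
    (∀ g ∈ S, g * z * g⁻¹ = z) → (∀ g ∈ S, g * u * g⁻¹ = u ∨ g * u * g⁻¹ = u * z) → False := by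
  intro z hz u hu z2 u2 z1 u1 uz zc uc
  have ez : z = y * y := (h.inv_t hz z2 (zc t h.tS)).resolve_left z1
  have tu : t * u * t⁻¹ = u * z := (uc t h.tS).resolve_left fun e =>
    (h.inv_t hu u2 e).elim u1 fun e => uz (e.trans ez.symm)
  have ui : u⁻¹ = u := inv_eq_of_mul_eq_one_right u2
  have zi : z⁻¹ = z := inv_eq_of_mul_eq_one_right z2
  have zu : u * z = z * u := mul_inv_eq_iff_eq_mul.1 (zc u hu.1)
  have uz2 : u * z * (u * z) = 1 := by rw [mul_assoc, ← mul_assoc z, ← zu, mul_assoc, z2, mul_one, u2]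
  have mv : ∀ g, g ∈ S → g * u * g⁻¹ = u * z → g * (u * z) * g⁻¹ = u := fun g hg e => by
    rw [← conj_mul, e, zc g hg, mul_assoc, z2, mul_one]
  obtain ⟨U, hU⟩ := ext_two (H := zpowers z) (b := u) (fun x hx => by
    rcases mem_two z2 hx with rfl | rfl
    · simp
    · rw [zc u hu.1]; exact hx) (by rw [u2]; exact one_mem _)
  have zU : z ∈ U := (hU z).2 (Or.inl (mem_zpowers z))
  have uU : u ∈ U := (hU u).2 (Or.inr (by simp))
  have cU : ∀ x ∈ U, x = 1 ∨ x = z ∨ x = u ∨ x = u * z := fun x hx => by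
    rcases (hU x).1 hx with e | e <;> rcases mem_two z2 e with e | e
    exacts [Or.inl e, Or.inr (Or.inl e), Or.inr (Or.inr (Or.inl (mul_inv_eq_one.1 e))),
      Or.inr (Or.inr (Or.inr (by rw [zu]; exact mul_inv_eq_iff_eq_mul.1 e)))]
  have UT : U ≤ S ⊓ A := fun x hx => by
    rcases cU x hx with rfl | rfl | rfl | rfl
    exacts [one_mem _, hz, hu, mul_mem hu hz]
  have yc : ∀ x ∈ zpowers y, x ∈ U ∨ y⁻¹ * x ∈ U := fun x hx => by
    rcases mem_four h.y4 hx with rfl | rfl | rfl | rfl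
    · exact Or.inl (one_mem _)
    · exact Or.inr (by simp)
    · exact Or.inl (ez ▸ zU)
    · exact Or.inr (by rw [← mul_inv_rev, ← ez]; exact inv_mem zU)
  obtain ⟨b, hb, hx⟩ := inv_mod (U := U) (y := y) h.syl.pgroup inf_le_left UT
    (fun g hg => mem_normalizer_of_forall fun x hx => by
      have : g * u * g⁻¹ ∈ U := by
        rcases uc g hg with e | e <;> rw [e]
        exacts [uU, mul_mem uU zU]
      rcases cU x hx with rfl | rfl | rfl | rfl
      · simp
      · rwa [zc g hg]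
      · exact this
      · rw [← conj_mul, zc g hg]; exact mul_mem this zU) h.tS h.t2 (fun e => h.tA e.2)
    (fun x hx => (h.cov x (h.syl.le hx)).imp (fun e => ⟨S.mul_mem hx h.tS, e⟩) fun e => ⟨hx, e⟩) h.yT
    fun x hx e => by
      have e1 : t * (x⁻¹ * (t * x * t⁻¹)) * t⁻¹ = (x⁻¹ * (t * x * t⁻¹))⁻¹ := by
        calc _ = (t * x * t⁻¹)⁻¹ * (t * t * x * (t * t)⁻¹) := by group
          _ = _ := by rw [h.t2]; group
      rcases cU _ e with e | e | e | e
      · exact yc x (h.cen x hx (inv_mul_eq_one.1 e).symm)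
      · have := yc _ (h.cen (x * u) (mul_mem hx hu) (by
          rw [← conj_mul, tu, inv_mul_eq_iff_eq_mul.1 e, zu, mul_assoc, ← mul_assoc z, z2, one_mul]))
        rw [← mul_assoc] at this
        exact this.imp (fun e => (mul_mem_cancel_right uU).1 e) fun e => (mul_mem_cancel_right uU).1 e
      · rw [e, tu, ui] at e1
        exact absurd (by simpa using e1) z1
      · rw [e, mv t h.tS tu, inv_eq_of_mul_eq_one_right uz2] at e1
        exact absurd (by simpa using e1) z1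
  have cT : b⁻¹ * (t * b * t⁻¹) ∈ S ⊓ A := mul_mem (inv_mem hb) (h.cjT h.tS hb)
  have tb : t * b * t⁻¹ = b * (b⁻¹ * (t * b * t⁻¹)) := by group
  have tc : t * (b⁻¹ * (t * b * t⁻¹)) * t⁻¹ = (b⁻¹ * (t * b * t⁻¹))⁻¹ := by
    calc _ = (t * b * t⁻¹)⁻¹ * (t * t * b * (t * t)⁻¹) := by group
      _ = _ := by rw [h.t2]; group
  have ti : t⁻¹ = t := inv_eq_of_mul_eq_one_right h.t2
  have cu : b⁻¹ * (t * b * t⁻¹) * u = u * (b⁻¹ * (t * b * t⁻¹)) := by
    refine mul_inv_eq_iff_eq_mul.1 ?_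
    have e0 : b⁻¹ * (t * b * t⁻¹) * u * (b⁻¹ * (t * b * t⁻¹))⁻¹ =
        b⁻¹ * (t * (b * (t⁻¹ * u * t⁻¹⁻¹) * b⁻¹) * t⁻¹) * b := by group
    rw [e0, inv_inv, ti]
    nth_rewrite 3 [← ti]
    rw [tu]
    rcases uc b hb.1 with e | e
    · rw [show b * (u * z) * b⁻¹ = b * u * b⁻¹ * (b * z * b⁻¹) from conj_mul.symm, e, zc b hb.1]
      nth_rewrite 2 [← ti]
      rw [mv t h.tS tu]; nth_rewrite 1 [← e]; group
    · rw [mv b hb.1 e]
      nth_rewrite 2 [← ti]
      rw [tu, ← e]; group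
  generalize b⁻¹ * (t * b * t⁻¹) = c at hx cT tb tc cu
  have cyy : Cy y y := ⟨⟨2, by rw [← h.y4]; simp [pow_succ, mul_assoc]⟩, mem_zpowers y, h.y4, h.y2⟩
  by_cases c2 : c * c = 1
  · have cU' : c ∈ U := by
      rcases h.inv_t cT c2 (tc.trans (inv_eq_of_mul_eq_one_right c2)) with e | e <;> rw [e]
      exacts [one_mem _, ez ▸ zU]
    have h1 : ∀ x ∈ S ⊓ A, x ∈ U ∨ b⁻¹ * x ∈ U := fun x hx' => (hx x hx').imp
      (fun ⟨i, w, hw, e⟩ => e ▸ mul_mem (zpow_mem cU' i) hw) fun ⟨i, w, hw, e⟩ => e ▸ mul_mem (zpow_mem cU' i) hw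
    have yU : y ∉ U := fun e => by
      rcases cU y e with e | e | e | e <;> refine h.y2 ?_ <;> rw [e]
      exacts [one_mul 1, z2, u2, uz2]
    have zy : z ∈ zpowers y := ez ▸ mul_mem (mem_zpowers y) (mem_zpowers y)
    have h2 : ∀ x ∈ U, x * u ∈ zpowers y ∨ x ∈ zpowers y := fun x hx => by
      rcases cU x hx with rfl | rfl | rfl | rfl
      · exact Or.inr (one_mem _)
      · exact Or.inr zy
      · exact Or.inl (by rw [u2]; exact one_mem _)
      · exact Or.inl (by rw [zu, mul_assoc, u2, mul_one]; exact zy)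
    have uy : u ∉ zpowers y := fun e => (cyy.invol e u2).elim u1 fun e => uz (e.trans ez.symm)
    have idx : ∀ x ∈ S ⊓ A, x * u ∈ zpowers y ∨ x ∈ zpowers y := fun x hx => by
      rcases h1 x hx with e | e
      · exact h2 x e
      · have := h2 _ (mul_mem (inv_mem ((h1 y h.yT).resolve_left yU)) e)
        rw [show (b⁻¹ * y)⁻¹ * (b⁻¹ * x) = y⁻¹ * x by group, mul_assoc] at this
        exact this.imp (fun e => (mul_mem_cancel_left (inv_mem (mem_zpowers y))).1 e)
          fun e => (mul_mem_cancel_left (inv_mem (mem_zpowers y))).1 e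
    have nr := nr_of_idx hu uy (zpowers_le.2 h.yT) idx
    refine h.cm (r := y) (w := y) (s := u) ⟨cyy, h.yT, fun g hg x hx => ?_, hu, uy, u2, idx⟩
    rcases h.cov g (h.syl.le hg) with e | e
    · obtain ⟨i, rfl⟩ := mem_zpowers_iff.1 hx
      have := nr _ ⟨S.mul_mem hg h.tS, e⟩ _ hx
      rwa [show g * t * y ^ i * (g * t)⁻¹ = g * (t * y ^ i * t⁻¹) * g⁻¹ by group, ← conj_zpow, h.ty] at this
    · exact nr g ⟨hg, e⟩ x hx
  obtain ⟨n, hn⟩ := isPGroup_iff_mem.1 h.syl.pgroup c cT.1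
  obtain ⟨w, cy⟩ := exists_cy hn c2
  have tρ : ∀ ρ ∈ zpowers c, t * ρ * t⁻¹ = ρ⁻¹ := fun ρ hρ => by
    obtain ⟨i, rfl⟩ := mem_zpowers_iff.1 hρ
    rw [← conj_zpow, tc, inv_zpow]
  have zc' : w * w ∈ zpowers c := mul_mem cy.mem cy.mem
  have hR : zpowers c ≤ S ⊓ A := zpowers_le.2 cT
  obtain rfl : z = w * w := ez.trans ((h.inv_t (hR zc') cy.y4 ((tρ _ zc').trans
    (inv_eq_of_mul_eq_one_right cy.y4))).resolve_left cy.y2).symm
  have uc' : u ∉ zpowers c := fun e => (cy.invol e u2).elim u1 uz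
  have cuu : ∀ x ∈ zpowers c, x * u = u * x := fun x hx => by
    obtain ⟨i, rfl⟩ := mem_zpowers_iff.1 hx
    exact (Commute.zpow_left cu i).eq
  obtain ⟨E, hE⟩ := ext_two (H := zpowers c) (b := u) (fun x hx => by
    rwa [← cuu x hx, mul_inv_cancel_right]) (by rw [u2]; exact one_mem _)
  have cE : ∀ x ∈ zpowers c, x ∈ E := fun x hx => (hE x).2 (Or.inl hx)
  have uE : u ∈ E := (hE u).2 (Or.inr (by simp))
  have UE : U ≤ E := fun x hx => by
    rcases cU x hx with rfl | rfl | rfl | rfl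
    exacts [one_mem _, cE _ zc', uE, mul_mem uE (cE _ zc')]
  have idx : ∀ x ∈ S ⊓ A, x ∈ E ∨ b⁻¹ * x ∈ E := fun x hx' => (hx x hx').imp
    (fun ⟨i, w, hw, e⟩ => e ▸ mul_mem (cE _ (zpow_mem_zpowers c i)) (UE hw))
    fun ⟨i, w, hw, e⟩ => e ▸ mul_mem (cE _ (zpow_mem_zpowers c i)) (UE hw)
  by_cases bE : b ∈ E
  · refine h.cm1 cy cT hu uc' u2 (fun x hx => ?_) (by rw [← cuu w cy.mem, mul_inv_cancel_right])
    have : x ∈ E := (idx x hx).elim id fun e => (mul_mem_cancel_left (inv_mem bE)).1 e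
    rw [← ui]; exact ((hE x).1 this).symm
  have βE : b * b ∈ E := (idx _ (mul_mem hb hb)).resolve_right (by simpa using bE)
  have bc : b⁻¹ * c * b = (b * b)⁻¹ * (t * (b * b) * t⁻¹) * c⁻¹ := by rw [← conj_mul, tb]; group
  have bu : b⁻¹ * u * b = u ∨ b⁻¹ * u * b = u * (w * w) := by simpa using uc _ (inv_mem hb.1)
  obtain ⟨i, hi⟩ : ∃ i : ℤ, b * b = c ^ i ∨ b * b = c ^ i * u := by
    rcases (hE _).1 βE with e | e <;> obtain ⟨i, hi⟩ := mem_zpowers_iff.1 e
    exacts [⟨i, Or.inl hi.symm⟩, ⟨i, Or.inr (by rw [hi]; group)⟩]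
  have ci := zpow_mem_zpowers c i
  have β2 : b * b * (b * b) = c ^ i * c ^ i := by
    rcases hi with e | e <;> rw [e]
    rw [mul_assoc, ← mul_assoc u, ← cuu _ ci, mul_assoc, u2, mul_one]
  rcases Int.even_or_odd i with ev | od
  swap
  · have cc := mem_zp_odd hn od
    obtain ⟨k, hk⟩ := isPGroup_iff_mem.1 h.syl.pgroup b hb.1
    obtain ⟨w', cy'⟩ := exists_cy (r := b * b) (k := k) (by rw [← pow_two, ← pow_mul, mul_comm, pow_mul, hk, one_pow])
      (by rw [β2]; intro e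
          rcases mem_two e cc with e' | e' <;> exact c2 (by rw [e']; simp [e]))
    have hββ : zpowers (b * b) ≤ zpowers b := zpowers_le.2 (mul_mem (mem_zpowers b) (mem_zpowers b))
    have cyb : Cy b w' := ⟨⟨k, hk⟩, hββ cy'.mem, cy'.y4, cy'.y2⟩
    have βu : Commute (b * b) u := by
      rcases hi with e | e <;> rw [e]
      exacts [cuu _ ci, Commute.mul_left (cuu _ ci) (Commute.refl u)]
    obtain ⟨j, hj⟩ := mem_zpowers_iff.1 cy'.mem
    have ww : w' * w' = w * w := (cy.invol (by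
      rw [← hj, ← (Commute.refl (b * b)).mul_zpow, β2]; exact zpow_mem (mul_mem ci ci) j) cy'.y4).resolve_left cy'.y2
    have cm : ∀ ρ ∈ zpowers c, ρ * u ∈ zpowers b ∨ ρ ∈ zpowers b := fun ρ hρ => by
      obtain ⟨l, rfl⟩ := mem_zpowers_iff.1 (zpowers_le.2 cc hρ)
      have := hββ (zpow_mem_zpowers (b * b) l)
      rcases hi with e | e <;> rw [e] at this
      · exact Or.inr this
      · rw [Commute.mul_zpow (cuu _ ci)] at this
        rcases Int.even_or_odd l with hl | hl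
        · rw [zp_even u2 hl, mul_one] at this; exact Or.inr this
        · rw [zp_odd u2 hl] at this; exact Or.inl this
    have cm' : ∀ x ∈ E, x * u ∈ zpowers b ∨ x ∈ zpowers b := fun x hx => by
      rcases (hE x).1 hx with e | e
      · exact cm x e
      · have := cm _ e
        rw [inv_mul_cancel_right, ui] at this
        exact this.symm
    refine h.cm1 cyb hb hu (fun e => (cyb.invol e u2).elim u1 fun e => uz (e.trans ww)) u2 (fun x hx => ?_)
      (by rw [← hj, ← (βu.zpow_left j).eq, mul_inv_cancel_right])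
    rcases idx x hx with e | e
    · exact cm' x e
    · have := cm' _ e
      rw [mul_assoc] at this
      exact this.imp (fun e => (mul_mem_cancel_left (inv_mem (mem_zpowers b))).1 e)
        fun e => (mul_mem_cancel_left (inv_mem (mem_zpowers b))).1 e
  have z2' := cy.y4
  have bc' : b⁻¹ * c * b = (c ^ i * c ^ i)⁻¹ * c⁻¹ ∨ b⁻¹ * c * b = w * w * ((c ^ i * c ^ i)⁻¹ * c⁻¹) := by
    rcases hi with e | e <;> rw [bc, e]
    · exact Or.inl (by rw [tρ _ ci]; group)
    · refine Or.inr ?_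
      rw [← conj_mul, tρ _ ci, tu]
      calc _ = u⁻¹ * ((c ^ i * c ^ i)⁻¹ * u) * (w * w) * c⁻¹ := by group
        _ = (c ^ i * c ^ i)⁻¹ * (w * w) * c⁻¹ := by rw [cuu _ (inv_mem (mul_mem ci ci))]; group
        _ = _ := by rw [comm_zp (inv_mem (mul_mem ci ci)) zc', mul_assoc]
  have cz : ∀ (g : G) (l : ℤ), b⁻¹ * g ^ l * b = (b⁻¹ * g * b) ^ l := fun g l => by
    have := conj_zpow (a := b⁻¹) (b := g) (i := l)
    rw [inv_inv] at this; exact this.symm
  have σc := mul_mem ci ci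
  have σ2 : c ^ i * c ^ i = 1 ∨ c ^ i * c ^ i = w * w := by
    refine cy.invol σc ?_
    have e1 : b⁻¹ * c ^ (i + i) * b = ((c ^ i * c ^ i)⁻¹ * c⁻¹) ^ (i + i) := by
      rcases bc' with e | e <;> rw [cz, e]
      rw [Commute.mul_zpow (comm_zp zc' (mul_mem (inv_mem σc) (inv_mem (mem_zpowers c)))),
        zp_even z2' ⟨i, rfl⟩, one_mul]
    rw [zpow_add, ← β2, show b⁻¹ * (b * b * (b * b)) * b = b * b * (b * b) by group, β2,
      Commute.mul_zpow (comm_zp (inv_mem σc) (inv_mem (mem_zpowers c))), inv_zpow, inv_zpow,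
      zpow_add c] at e1
    have e2 : (c ^ i * c ^ i * (c ^ i * c ^ i)) ^ (i + 1) = 1 := by
      generalize c ^ i * c ^ i = σ at e1
      calc _ = σ ^ (i + i) * σ * σ := by rw [← zpow_two, ← zpow_mul]; group
        _ = 1 := by nth_rewrite 2 [e1]; group
    obtain ⟨k, hk⟩ := isPGroup_iff_mem.1 h.syl.pgroup _ (hR (mul_mem σc σc)).1
    have := mem_zp_odd hk ev.add_one
    rwa [e2, zpowers_one_eq_bot, mem_bot] at this
  have s : St A (S ⊓ A) E c w u b := ⟨h.sylT, h.lay, cy, cT, hu, hb, u2, uc', cu, hE, bE, idx, by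
    rcases bc' with e | e <;> rcases σ2 with e' | e' <;> rw [e, e']
    exacts [Or.inl (by simp), Or.inr (by rw [zi]), Or.inr (by simp), Or.inl (by group)], bu⟩
  by_cases b4 : b * b * (b * b) = 1
  · rcases s.invE βE b4 with e | e | e | e
    · exact s.gamma (Or.inl e) (by rw [bc, e]; simp)
    · exact s.gamma (Or.inr e) (by rw [bc, e, zc t h.tS]; simp)
    · exact s.beta (Or.inl e) (by rw [bc, e, tu]; group)
    · exact s.beta (Or.inr e) (by rw [bc, e, mv t h.tS tu, mul_inv_rev, zi]; group)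
  have bρ : b⁻¹ * c ^ i * b = (c ^ i)⁻¹ := by
    rcases s.bc with e | e <;> rw [cz, e]
    · exact inv_zpow c i
    · rw [Commute.mul_zpow (comm_zp zc' (inv_mem (mem_zpowers c))), zp_even z2' ev, one_mul, inv_zpow]
  have bβ : b⁻¹ * (b * b) * b = b * b := by group
  rcases hi with e | e
  · rw [e, bρ] at bβ
    exact b4 (by rw [β2]; nth_rewrite 1 [← bβ]; simp)
  · refine s.alpha b4 (fun e' => uc' ((mul_mem_cancel_left ci).1 (e ▸ e'))) (bu.resolve_left fun e' => ?_)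
    rw [e, show b⁻¹ * (c ^ i * u) * b = b⁻¹ * c ^ i * b * (b⁻¹ * u * b) by group, bρ, e'] at bβ
    exact b4 (by rw [β2]; nth_rewrite 1 [← mul_right_cancel bβ]; simp)

theorem rank : PRankLE 2 1 A :=
  rank_one h.sylT fun a ha b hb a2 b2 a1 b1 _ => by_contra fun hab => by
    obtain ⟨r, w, s, c⟩ := cyc h.syl.pgroup inf_le_left h.nT h.no4 ha hb a2 b2 a1 b1 hab
    exact h.cm c

end Tf

theorem z4_main {A : Subgroup G} (hA : layer A = ⊤) {t : G} (ht : orderOf t = 2)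
    (htA : t ∈ normalizer (A : Set G))
    (hC : ∀ R : Sylow 2 ↥(A ⊓ centralizer ({t} : Set G)), IsCyclic R ∧ Nat.card R = 4) :
    PRankLE 2 1 A ∧ ¬ PRankLE 2 0 A := by
  have t2 := sq_of_ord ht
  have key : ∀ R, IsSylowIn 2 R (A ⊓ Cx t) → ∃ y, R = zpowers y ∧ Cy y y := fun R hR => by
    obtain ⟨h1, h2⟩ := hC hR.toSylow
    have e := subgroupOfEquivOfLe hR.le
    obtain ⟨y, rfl⟩ := GW.exists_eq_zpowers (isCyclic_of_surjective e e.surjective (hH := h1))
    have h4 : orderOf y = 4 := by rw [← Nat.card_zpowers, ← h2]; exact (Nat.card_congr e.toEquiv).symm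
    refine ⟨y, rfl, ⟨2, by rw [← pow_orderOf_eq_one y, h4]; rfl⟩, mem_zpowers y, ?_, fun e => ?_⟩
    · rw [← pow_orderOf_eq_one y, h4]; simp [pow_succ, mul_assoc]
    · have := orderOf_dvd_of_pow_eq_one (show y ^ 2 = 1 by rwa [pow_two])
      rw [h4] at this; omega
  obtain ⟨R, hR⟩ := exists_isSylowIn 2 (A ⊓ Cx t)
  obtain ⟨y, rfl, cy⟩ := key R hR
  have yA := hR.le (mem_zpowers y)
  have ty : t * y * t⁻¹ = y := mem_Cx'.1 (Cx_comm.1 yA.2)
  refine ⟨?_, not_rank_zero (A := zpowers y) (hR.le.trans inf_le_left) fun h0 => cy.y2 ?_⟩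
  swap
  · have := h0 (zpowers ⟨y * y, mul_mem (mem_zpowers y) (mem_zpowers y)⟩) inferInstance fun a ha => by
      rcases mem_two (Subtype.ext cy.y4) ha with rfl | rfl
      exacts [one_pow 2, Subtype.ext (by simpa [pow_two] using cy.y4)]
    rw [pow_zero, Nat.card_zpowers] at this
    exact congrArg Subtype.val (orderOf_eq_one_iff.1 (le_antisymm this (orderOf_pos _)))
  have h2 : IsPGroup 2 (zpowers y ⊔ zpowers t : Subgroup G) :=
    LAE.isPGroup_sup hR.pgroup (isPGroup_zpowers_of_pow (k := 1) (by simpa [pow_two] using t2))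
      (zpowers_le.2 (mem_normalizer_of_forall fun x hx => by
        obtain ⟨i, rfl⟩ := mem_zpowers_iff.1 hx
        rw [← conj_zpow, mem_Cx'.1 yA.2]; exact hx))
  obtain ⟨S, hS, hle⟩ := exists_isSylowIn_ge (H := A ⊔ zpowers t) h2
    (sup_le_sup_right (hR.le.trans inf_le_left) _)
  have h : Cf A (A ⊔ zpowers t) S := ⟨hS, le_sup_left, sup_le le_normalizer (zpowers_le.2 htA),
    fun L _ => perf_of_layer hA L⟩
  have tS : t ∈ S := hle (mem_sup_right (mem_zpowers t))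
  have yT : y ∈ S ⊓ A := ⟨hle (mem_sup_left (mem_zpowers y)), yA.1⟩
  have cen : ∀ x ∈ S ⊓ A, t * x * t⁻¹ = x → x ∈ zpowers y := fun x hx e =>
    (hR.eq_of_le (Q := S ⊓ (A ⊓ Cx t)) (hS.pgroup.to_le inf_le_left)
      (le_inf (zpowers_le.2 yT.1) hR.le) inf_le_right).le ⟨hx.1, hx.2, Cx_comm.1 (mem_Cx'.2 e)⟩
  by_cases tA : t ∈ A
  · refine rank_one h.sylT fun a ha b hb a2 b2 a1 b1 _ => ?_
    obtain ⟨z, hz, z1, z2, zc⟩ := step (M := S ⊓ A) (N := ⊥) hS.pgroup inf_le_left h.nT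
      (fun g _ => mem_normalizer_of_forall fun x hx => by simp [mem_bot.1 hx])
      fun hh => a1 (mem_bot.1 (hh ha))
    have zc' : ∀ g ∈ S, z * g = g * z := fun g hg => by
      rw [← mul_inv_eq_iff_eq_mul, ← mul_inv_eq_one]; exact mem_bot.1 (zc g hg)
    have e1 := (cy.invol (cen z hz (by rw [← zc' t tS, mul_inv_cancel_right])) (mem_bot.1 z2)).resolve_left
      fun e => z1 (mem_bot.2 e)
    have e2 := (cy.invol (cen t ⟨tS, tA⟩ (by group)) t2).resolve_left (ne_one_of_ord ht)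
    have k : ∀ a ∈ S ⊓ A, a * a = 1 → a ≠ 1 → a = y * y := fun a ha a2 a1 =>
      (cy.invol (cen a ha (by rw [e2, ← e1, zc' a ha.1, mul_inv_cancel_right])) a2).resolve_left a1
    rw [k a ha a2 a1, k b hb b2 b1]
  refine Tf.rank (B := A ⊔ zpowers t) (S := S) (t := t) (y := y) ⟨h, hA, tS, t2, tA, fun g hg => ?_, yT,
    cy.y4, cy.y2, ty, cen, fun a ha b hb a2 b2 a1 b1 e ea eb => ?_⟩
  · obtain ⟨α, hα, μ, hμ, rfl⟩ := (LAE.mem_sup_iff_of_right_le_normalizer (zpowers_le.2 htA)).1 hg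
    rcases mem_two t2 hμ with rfl | rfl
    · exact Or.inr (by simpa using hα)
    · exact Or.inl (by rwa [mul_assoc, t2, mul_one])
  · have h3 : IsPGroup 2 (zpowers a ⊔ zpowers b : Subgroup G) :=
      LAE.isPGroup_sup (isPGroup_zpowers_of_pow (k := 1) (by simpa [pow_two] using a2))
        (isPGroup_zpowers_of_pow (k := 1) (by simpa [pow_two] using b2))
        (zpowers_le.2 (mem_normalizer_of_forall fun x hx => by
          obtain ⟨i, rfl⟩ := mem_zpowers_iff.1 hx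
          rw [← conj_zpow, e, mul_inv_cancel_right]; exact hx))
    obtain ⟨R', hR', hle'⟩ := exists_isSylowIn_ge (H := A ⊓ Cx t) h3 (sup_le
      (zpowers_le.2 ⟨ha, Cx_comm.1 (mem_Cx'.2 ea)⟩) (zpowers_le.2 ⟨hb, Cx_comm.1 (mem_Cx'.2 eb)⟩))
    obtain ⟨y', rfl, cy'⟩ := key R' hR'
    rw [(cy'.invol (hle' (mem_sup_left (mem_zpowers a))) a2).resolve_left a1,
      (cy'.invol (hle' (mem_sup_right (mem_zpowers b))) b2).resolve_left b1]

end CfsgLib.Semi4
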