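import Cfsg.Agent.Lib.Semi4.Tf

/-!
Sylow 2-subgroups with an abelian subgroup `⟨c⟩ × ⟨u⟩` of index two inverted modulo `z`.
-/

set_option autoImplicit false

namespace CfsgLib.Semi4

open Subgroup Cfsg CfsgLib.Tech CfsgLib.W2

variable {G : Type*} [Group G]

structure St (A T E : Subgroup G) (c w u b : G) : Prop where
  syl : IsSylowIn 2 T A
  lay : layer A = ⊤
  cy : Cy c w
  cT : c ∈ T
  uT : u ∈ T
  bT : b ∈ T
  u2 : u * u = 1
  uc : u ∉ zpowers c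
  cu : c * u = u * c
  mE : ∀ x, x ∈ E ↔ x ∈ zpowers c ∨ x * u⁻¹ ∈ zpowers c
  bE : b ∉ E
  idx : ∀ x ∈ T, x ∈ E ∨ b⁻¹ * x ∈ E
  bc : b⁻¹ * c * b = c⁻¹ ∨ b⁻¹ * c * b = w * w * c⁻¹
  bu : b⁻¹ * u * b = u ∨ b⁻¹ * u * b = u * (w * w)

namespace St

variable {A T E : Subgroup G} {c w u b : G} (h : St A T E c w u b)
include h

theorem zc : w * w ∈ zpowers c := mul_mem h.cy.mem h.cy.mem
theorem ui : u⁻¹ = u := inv_eq_of_mul_eq_one_right h.u2
theorem zi : (w * w)⁻¹ = w * w := inv_eq_of_mul_eq_one_right h.cy.y4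
theorem u1 : u ≠ 1 := fun e => h.uc (e ▸ one_mem _)
theorem uz : u ≠ w * w := fun e => h.uc (e ▸ h.zc)
theorem cE {x : G} (hx : x ∈ zpowers c) : x ∈ E := (h.mE x).2 (Or.inl hx)
theorem uE : u ∈ E := (h.mE u).2 (Or.inr (by simp))
theorem cuu {x : G} (hx : x ∈ zpowers c) : x * u = u * x := by
  obtain ⟨i, rfl⟩ := mem_zpowers_iff.1 hx
  exact (Commute.zpow_left h.cu i).eq

theorem cs {x : G} (hx : x ∈ E) : ∃ ρ ∈ zpowers c, x = ρ ∨ x = ρ * u :=
  ((h.mE x).1 hx).elim (fun e => ⟨x, e, Or.inl rfl⟩) fun e => ⟨_, e, Or.inr (by group)⟩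

theorem ET : E ≤ T := fun x hx => by
  obtain ⟨ρ, hρ, rfl | rfl⟩ := h.cs hx
  exacts [zpowers_le.2 h.cT hρ, mul_mem (zpowers_le.2 h.cT hρ) h.uT]

theorem comm {x y : G} (hx : x ∈ E) (hy : y ∈ E) : x * y = y * x := by
  obtain ⟨ρ, hρ, e1⟩ := h.cs hx
  obtain ⟨σ, hσ, e2⟩ := h.cs hy
  have a : Commute ρ σ := comm_zp hρ hσ
  have a1 : Commute ρ u := h.cuu hρ
  have a2 : Commute σ u := h.cuu hσ
  rcases e1 with rfl | rfl <;> rcases e2 with rfl | rfl
  exacts [a, a.mul_right a1, a.mul_left a2.symm,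
    (a.mul_right a1).mul_left (a2.symm.mul_right (Commute.refl u))]

theorem sqE {x : G} (hx : x ∈ E) : x * x ∈ zpowers c := by
  obtain ⟨ρ, hρ, rfl | rfl⟩ := h.cs hx
  · exact mul_mem hρ hρ
  · rw [mul_assoc, ← mul_assoc u, ← h.cuu hρ, mul_assoc, h.u2, mul_one]; exact mul_mem hρ hρ

theorem sq4 {x : G} (hx : x ∈ E) (h4 : x * x * (x * x) = 1) : x * x = 1 ∨ x * x = w * w :=
  h.cy.invol (h.sqE hx) h4

theorem invE {x : G} (hx : x ∈ E) (h2 : x * x = 1) : x = 1 ∨ x = w * w ∨ x = u ∨ x = u * (w * w) := by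
  obtain ⟨ρ, hρ, rfl | rfl⟩ := h.cs hx
  · exact (h.cy.invol hρ h2).imp_right Or.inl
  · rw [mul_assoc, ← mul_assoc u, ← h.cuu hρ, mul_assoc, h.u2, mul_one] at h2
    rcases h.cy.invol hρ h2 with rfl | rfl
    · simp
    · simp [h.cuu h.zc]

theorem bρ {ρ : G} (hρ : ρ ∈ zpowers c) : b⁻¹ * ρ * b = ρ⁻¹ ∨ b⁻¹ * ρ * b = w * w * ρ⁻¹ := by
  obtain ⟨i, rfl⟩ := mem_zpowers_iff.1 hρ
  have e : b⁻¹ * c ^ i * b = (b⁻¹ * c * b) ^ i := by
    have := conj_zpow (a := b⁻¹) (b := c) (i := i)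
    rw [inv_inv] at this; exact this.symm
  rcases h.bc with e1 | e1 <;> rw [e, e1]
  · exact Or.inl (inv_zpow c i)
  · rw [Commute.mul_zpow (comm_zp h.zc (inv_mem (mem_zpowers c))), inv_zpow]
    rcases Int.even_or_odd i with hi | hi
    · rw [zp_even h.cy.y4 hi, one_mul]; exact Or.inl rfl
    · rw [zp_odd h.cy.y4 hi]; exact Or.inr rfl

theorem bz : b⁻¹ * (w * w) * b = w * w := by
  rcases h.bρ h.zc with e | e
  · rw [e, h.zi]
  · rw [mul_inv_cancel] at e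
    exact absurd (conj_eq_one_iff.1 (by rwa [inv_inv] : b⁻¹ * (w * w) * b⁻¹⁻¹ = 1)) h.cy.y2

theorem two {x : G} (hx : x ∈ T) (hE : x ∉ E) : ∃ y ∈ E, x = b * y :=
  ⟨_, (h.idx x hx).resolve_left hE, by group⟩

theorem zT {g : G} (hg : g ∈ T) : g * (w * w) = w * w * g := by
  by_cases hE : g ∈ E
  · exact h.comm hE (h.cE h.zc)
  · obtain ⟨y, hy, rfl⟩ := h.two hg hE
    calc b * y * (w * w) = b * (b⁻¹ * (w * w) * b) * y := by
          rw [h.bz, mul_assoc, h.comm hy (h.cE h.zc), ← mul_assoc]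
      _ = _ := by group

theorem act {x : G} (hx : x ∈ E) : b⁻¹ * x * b * x = 1 ∨ b⁻¹ * x * b * x = w * w := by
  obtain ⟨ρ, hρ, rfl | rfl⟩ := h.cs hx
  · rcases h.bρ hρ with e | e <;> rw [e] <;> simp
  · have e0 : b⁻¹ * (ρ * u) * b * (ρ * u) = b⁻¹ * ρ * b * ρ * (ρ⁻¹ * (b⁻¹ * u * b) * ρ * u) := by group
    have e1 : ρ⁻¹ * u * ρ * u = 1 := by rw [mul_assoc ρ⁻¹, ← h.cuu hρ]; simp [h.u2]
    have e2 : ρ⁻¹ * (u * (w * w)) * ρ * u = w * w := by
      rw [← h.cuu h.zc, ← mul_assoc, comm_zp (inv_mem hρ) h.zc, mul_assoc (w * w), mul_assoc (w * w),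
        mul_assoc (w * w), e1, mul_one]
    rcases h.bρ hρ with e | e <;> rcases h.bu with e' | e' <;> rw [e0, e, e'] <;> simp [e1, e2, h.cy.y4]

theorem βE : b * b ∈ E := (h.idx _ (mul_mem h.bT h.bT)).resolve_right (by simpa using h.bE)

theorem osq {x : G} (hx : x ∈ T) (hE : x ∉ E) : x * x = b * b ∨ x * x = b * b * (w * w) := by
  obtain ⟨y, hy, rfl⟩ := h.two hx hE
  rw [show b * y * (b * y) = b * b * (b⁻¹ * y * b * y) by group]
  rcases h.act hy with e | e <;> simp [e]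

theorem idx' : ∀ x ∈ T, x * b ∈ E ∨ x ∈ E := fun x hx => by
  have := mul_mem_iff_of_index_two (H := E.subgroupOf T)
    (relIndex_eq_two_iff_exists_notMem_and'.2 ⟨b⁻¹, inv_mem h.bT, by simpa using h.bE,
      fun x hx => (h.idx x hx).symm⟩) (a := ⟨x, hx⟩) (b := ⟨b, h.bT⟩)
  simp only [mem_subgroupOf, coe_mul, h.bE] at this
  tauto

theorem mulE {x y : G} (hx : x ∈ T) (hy : y ∈ T) (h1 : x ∉ E) (h2 : y ∉ E) : x * y ∈ E :=
  (mul_mem_iff_of_index_two (H := E.subgroupOf T)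
    (relIndex_eq_two_iff_exists_notMem_and.2 ⟨b, h.bT, h.bE, h.idx'⟩) (a := ⟨x, hx⟩) (b := ⟨y, hy⟩)).2
    (iff_of_false h1 h2)

variable [Finite G]

theorem perf : ∀ L : Subgroup G, L ≤ A → L.relIndex A ≠ 2 := fun L _ => perf_of_layer h.lay L

theorem alpha (h2 : b * b * (b * b) ≠ 1) (hc : b * b ∉ zpowers c) (hu : b⁻¹ * u * b = u * (w * w)) :
    False := by
  have β2 : b * b * (b * b) = w * w := by
    have := h.act h.βE
    rw [show b⁻¹ * (b * b) * b = b * b by group] at this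
    exact this.resolve_left h2
  have key : ∀ x ∈ T, x ∉ E → x * x ∉ zpowers c ∧ x * x * (x * x) = w * w ∧ T ≤ Cx (x * x) := by
    intro x hx hE
    have hβ : T ≤ Cx (b * b) := fun g hg => mem_Cx.2 (by
      by_cases hE : g ∈ E
      · exact h.comm hE h.βE
      · obtain ⟨y, hy, rfl⟩ := h.two hg hE
        rw [mul_assoc, h.comm hy h.βE]; group)
    rcases h.osq hx hE with e | e <;> rw [e]
    · exact ⟨hc, β2, hβ⟩
    · refine ⟨fun e => hc ((mul_mem_cancel_right h.zc).1 e), ?_, fun g hg => mem_Cx.2 ?_⟩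
      · rw [mul_assoc (b * b), ← mul_assoc (w * w), ← h.zT (h.ET h.βE), mul_assoc (b * b) (w * w),
          h.cy.y4, mul_one, β2]
      · rw [← mul_assoc, mem_Cx.1 (hβ hg), mul_assoc, h.zT hg, ← mul_assoc]
  obtain ⟨k, hk, a, ha, hx, hxE⟩ := foc h.syl h.perf h.ET h.bT h.bE h.idx'
  obtain ⟨k1, k2, k3⟩ := key _ hx hxE
  obtain ⟨g, hg, e, hP⟩ := ext h.syl k3 hk (s := a * a) (conj_mul.symm) (P := E)
    (h.syl.pgroup.to_le h.ET) (h.ET.trans h.syl.le) fun x hx => mem_Cx.2 (h.comm hx (mul_mem ha ha))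
  have aE : g * a * g⁻¹ ∉ E := fun hE => k1 (by rw [← e, ← conj_mul]; exact h.sqE hE)
  have u2 : g * u * g⁻¹ * (g * u * g⁻¹) = 1 := by rw [conj_mul, h.u2]; simp
  have uE : g * u * g⁻¹ ∈ E := by_contra fun hE => (key _ (hP u h.uE) hE).1 (by rw [u2]; exact one_mem _)
  have ub : b⁻¹ * (g * u * g⁻¹) * b = g * u * g⁻¹ := by
    obtain ⟨y, hy, e⟩ := h.two (hP a ha) aE
    have : g * u * g⁻¹ * (b * y) = b * y * (g * u * g⁻¹) := by
      rw [← e, conj_mul, conj_mul, h.comm ha h.uE]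
    rw [mul_assoc b, ← h.comm uE hy, ← mul_assoc, ← mul_assoc] at this
    rw [mul_assoc, mul_right_cancel this]; group
  have a4 : k * (a * a * (a * a)) * k⁻¹ = w * w := by rw [← k2]; simp only [conj_mul]
  have a4' : a * a * (a * a) = w * w := (h.sq4 (mul_mem ha ha) (conj_eq_one_iff.1
    (by rw [← conj_mul, a4, h.cy.y4] : k * _ * k⁻¹ = 1))).resolve_left
      fun e => h.cy.y2 (by rw [← a4, e]; simp)
  have gz : g * (w * w) * g⁻¹ = w * w := by
    nth_rewrite 1 [← a4']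
    rw [← conj_mul, e, k2]
  rcases h.invE uE u2 with e | e | e | e
  · exact h.u1 (conj_eq_one_iff.1 e)
  · exact h.uz (by simpa using e.trans gz.symm)
  · rw [e, hu] at ub
    exact h.cy.y2 (by simpa using ub)
  · rw [e, show b⁻¹ * (u * (w * w)) * b = b⁻¹ * u * b * (b⁻¹ * (w * w) * b) by group, hu, h.bz] at ub
    exact h.cy.y2 (by simpa using ub)

theorem beta (hb : b * b = u ∨ b * b = u * (w * w)) (hc : b⁻¹ * c * b = w * w * c⁻¹) : False := by
  have uz2 : u * (w * w) * (u * (w * w)) = 1 := by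
    rw [mul_assoc, ← mul_assoc (w * w), h.cuu h.zc, mul_assoc, h.cy.y4, mul_one, h.u2]
  have key : ∀ x ∈ T, x ∉ E → x * x = u ∨ x * x = u * (w * w) := fun x hx hE => by
    rcases h.osq hx hE with e | e <;> rcases hb with e' | e' <;> rw [e, e'] <;> simp [mul_assoc u, h.cy.y4]
  have ne : ∀ x, (x = u ∨ x = u * (w * w)) → x ∉ zpowers c ∧ x * x = 1 ∧ x ∈ E := by
    rintro x (rfl | rfl)
    · exact ⟨h.uc, h.u2, h.uE⟩
    · exact ⟨fun e => h.uc ((mul_mem_cancel_right h.zc).1 e), uz2, mul_mem h.uE (h.cE h.zc)⟩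
  by_cases c4 : c * c * (c * c) = 1
  · have c2 : c * c = w * w := (h.sq4 (h.cE (mem_zpowers c)) c4).resolve_left fun e => by
      rcases mem_two e h.cy.mem with e' | e' <;> exact h.cy.y2 (by rw [e']; simp [e])
    have bc : c * b = b * c := by
      rw [← c2, mul_inv_cancel_right] at hc
      nth_rewrite 2 [← hc]; group
    have bu : u * b = b * u := by
      rcases hb with e | e
      · rw [← e]; group
      · rw [← mul_inv_eq_iff_eq_mul, h.zi] at e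
        rw [← e, mul_assoc, ← h.zT h.bT]; group
    have bx : ∀ x ∈ E, x * b = b * x := fun x hx => by
      obtain ⟨ρ, hρ, e⟩ := h.cs hx
      obtain ⟨i, rfl⟩ := mem_zpowers_iff.1 hρ
      have a : Commute (c ^ i) b := Commute.zpow_left bc i
      rcases e with rfl | rfl
      exacts [a, a.mul_left bu]
    have ex : ∀ x ∈ E, ∀ y ∈ T, Commute x y := fun x hx y hy => by
      by_cases hE : y ∈ E
      · exact h.comm hx hE
      · obtain ⟨y, hy', rfl⟩ := h.two hy hE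
        exact Commute.mul_right (bx x hx) (h.comm hx hy')
    refine brauer h.lay h.syl (fun x hx y hy => ?_) (h.ET (h.cE h.zc)) h.uT h.cy.y4 h.u2 h.cy.y2 h.u1
      h.uz (h.ET (h.cE h.cy.mem)) h.cy.y2 fun x hx x2 => h.invE (by_contra fun hE =>
        (ne _ (key x hx hE)).1 (by rw [x2]; exact one_mem _)) x2
    by_cases hE : x ∈ E
    · exact ex x hE y hy
    · obtain ⟨x, hx', rfl⟩ := h.two hx hE
      refine Commute.mul_left ?_ (ex x hx' y hy)
      by_cases hE : y ∈ E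
      · exact (ex y hE b h.bT).symm
      · obtain ⟨y, hy', rfl⟩ := h.two hy hE
        exact (Commute.refl b).mul_right (ex y hy' b h.bT).symm
  obtain ⟨k, hk, a, ha, hx, hxE⟩ := foc h.syl h.perf h.ET h.bT h.bE h.idx'
  obtain ⟨k1, k2, k3⟩ := ne _ (key _ hx hxE)
  rw [conj_mul] at k1 k2 k3
  have a2 : a * a = w * w := (h.sq4 ha (conj_eq_one_iff.1
    (by rw [← conj_mul, k2] : k * _ * k⁻¹ = 1))).resolve_left fun e => k1 (by simp [e])
  rw [a2] at k1 k2 k3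
  obtain ⟨n, hn⟩ := h.cy.pw
  obtain ⟨g, hg, e, hP⟩ := ext h.syl (z := w * w) (fun g hg => mem_Cx.2 (h.zT hg)) (inv_mem hk)
    (s := k * (w * w) * k⁻¹) (by group) (P := zpowers c) (isPGroup_zpowers_of_pow hn)
    ((zpowers_le.2 h.cT).trans h.syl.le) fun x hx => mem_Cx.2 (h.comm (h.cE hx) k3)
  have cE : g * c * g⁻¹ ∈ E := by_contra fun hE => c4 (conj_eq_one_iff.1 (by
    rw [← conj_mul, ← conj_mul]
    exact (ne _ (key _ (hP c (mem_zpowers c)) hE)).2.1 : g * _ * g⁻¹ = 1))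
  have wE : g * w * g⁻¹ ∈ E := by
    obtain ⟨i, hi⟩ := mem_zpowers_iff.1 h.cy.mem
    rw [← hi, ← conj_zpow]; exact zpow_mem cE i
  rcases h.sq4 wE (by simp only [conj_mul, h.cy.y4]; simp) with e' | e' <;> rw [conj_mul] at e'
  · exact h.cy.y2 (conj_eq_one_iff.1 e')
  · exact k1 (by rw [show k * (w * w) * k⁻¹ = w * w by simpa using e.trans e'.symm]; exact h.zc)

end St

end CfsgLib.Semi4
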