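import Cfsg.Agent.Lib.Semi4.Inv

/-!
An involution whose fixed points in a perfect group have a cyclic Sylow 2-subgroup of order four:
the case of an invariant cyclic subgroup of index two.
-/

set_option autoImplicit false

namespace CfsgLib.Semi4

open Subgroup Cfsg CfsgLib.Tech CfsgLib.W2

variable {G : Type*} [Group G] [Finite G]

omit [Finite G] in
theorem nr_of_idx {T R : Subgroup G} {s : G} (hs : s ∈ T) (sR : s ∉ R) (hR : R ≤ T)
    (idx : ∀ x ∈ T, x * s ∈ R ∨ x ∈ R) : ∀ g ∈ T, ∀ x ∈ R, g * x * g⁻¹ ∈ R := fun g hg x hx =>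
  (normal_of_index_eq_two (H := R.subgroupOf T)
    (relIndex_eq_two_iff_exists_notMem_and.2 ⟨s, hs, sR, idx⟩)).conj_mem ⟨x, hR hx⟩ hx ⟨g, hg⟩

theorem Cf.cm1 {A B S : Subgroup G} (h : Cf A B S) {r y s : G} (cy : Cy r y) (rT : r ∈ S ⊓ A)
    (sT : s ∈ S ⊓ A) (sR : s ∉ zpowers r) (s2 : s * s = 1)
    (idx : ∀ x ∈ S ⊓ A, x * s ∈ zpowers r ∨ x ∈ zpowers r) (e : s * y * s⁻¹ = y) : False := by
  have h' : Cf A A (S ⊓ A) := ⟨h.sylT, le_rfl, le_normalizer, h.perf⟩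
  have c : CM (S ⊓ A) (S ⊓ A ⊓ A) r y s := ⟨cy, ⟨rT, rT.2⟩, nr_of_idx sT sR (zpowers_le.2 rT) idx,
    ⟨sT, sT.2⟩, sR, s2, fun x hx => idx x hx.1⟩
  exact cy.inv_ne ((h'.s_inv c).symm.trans e)

omit [Finite G] in
theorem mem_zp_sq {r : G} {i : ℤ} (hi : Even i) : r ^ i ∈ zpowers (r * r) := by
  obtain ⟨j, rfl⟩ := hi
  exact mem_zpowers_iff.2 ⟨j, by rw [← two_mul, zpow_mul, zpow_two]⟩

omit [Finite G] in
theorem mem_zp_odd {r : G} {k : ℕ} (hr : r ^ 2 ^ k = 1) {i : ℤ} (hi : Odd i) : r ∈ zpowers (r ^ i) := by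
  have hc : IsCoprime i ((2 ^ k : ℕ) : ℤ) := by
    push_cast
    obtain ⟨j, rfl⟩ := hi
    exact (show IsCoprime (2 * j + 1) 2 from ⟨1, -j, by ring⟩).pow_right
  obtain ⟨u, v, e⟩ := hc
  refine mem_zpowers_iff.2 ⟨u, ?_⟩
  have : r ^ (u * i + v * ((2 ^ k : ℕ) : ℤ)) = r := by rw [e, zpow_one]
  rwa [zpow_add, mul_comm v, zpow_mul r _ v, zpow_natCast, hr, one_zpow, mul_one, mul_comm u, zpow_mul] at this

/-- `t` is an involution outside `A`, `B = A⟨t⟩`, and `C_T(t) = ⟨y⟩` has order four. -/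
structure Tf (A B S : Subgroup G) (t y : G) : Prop extends Cf A B S where
  lay : layer A = ⊤
  tS : t ∈ S
  t2 : t * t = 1
  tA : t ∉ A
  cov : ∀ g ∈ B, g * t ∈ A ∨ g ∈ A
  yT : y ∈ S ⊓ A
  y4 : y * y * (y * y) = 1
  y2 : y * y ≠ 1
  ty : t * y * t⁻¹ = y
  cen : ∀ x ∈ S ⊓ A, t * x * t⁻¹ = x → x ∈ zpowers y
  rk : ∀ a ∈ A, ∀ b ∈ A, a * a = 1 → b * b = 1 → a ≠ 1 → b ≠ 1 → a * b = b * a →
    t * a * t⁻¹ = a → t * b * t⁻¹ = b → a = b

namespace Tf

variable {A B S : Subgroup G} {t y : G} (h : Tf A B S t y)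
include h

omit [Finite G] in
theorem mulA {a b : G} (ha : a ∈ B) (hb : b ∈ B) : a * b ∈ A ↔ (a ∈ A ↔ b ∈ A) :=
  mul_mem_iff_of_index_two (H := A.subgroupOf B)
    (relIndex_eq_two_iff_exists_notMem_and.2 ⟨t, h.syl.le h.tS, h.tA, h.cov⟩) (a := ⟨a, ha⟩) (b := ⟨b, hb⟩)

omit [Finite G] in
theorem cos {v : G} (hv : v ∈ B) : ∀ g ∈ B, g * v * g⁻¹ * v⁻¹ ∈ A := fun g hg => by
  rw [h.mulA (mul_mem (mul_mem hg hv) (inv_mem hg)) (inv_mem hv), h.mulA (mul_mem hg hv) (inv_mem hg),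
    h.mulA hg hv, inv_mem_iff, inv_mem_iff]
  tauto

omit [Finite G] in
theorem rk' {g a b : G} (hg : g ∈ B) (ha : a ∈ A) (hb : b ∈ A) (a2 : a * a = 1) (b2 : b * b = 1)
    (a1 : a ≠ 1) (b1 : b ≠ 1) (e : a * b = b * a) (ea : g * t * g⁻¹ * a = a * (g * t * g⁻¹))
    (eb : g * t * g⁻¹ * b = b * (g * t * g⁻¹)) : a = b := by
  have k : ∀ x, g * t * g⁻¹ * x = x * (g * t * g⁻¹) → t * (g⁻¹ * x * g⁻¹⁻¹) * t⁻¹ = g⁻¹ * x * g⁻¹⁻¹ :=
    fun x e => by
      calc _ = g⁻¹ * (g * t * g⁻¹ * x) * g * t⁻¹ := by group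
        _ = _ := by rw [e]; group
  have := h.rk _ (h.cjA (inv_mem hg) ha) _ (h.cjA (inv_mem hg) hb) (by rw [conj_mul, a2]; simp)
    (by rw [conj_mul, b2]; simp) (fun e => a1 (conj_eq_one_iff.1 e)) (fun e => b1 (conj_eq_one_iff.1 e))
    (by rw [conj_mul, conj_mul, e]) (k a ea) (k b eb)
  simpa using this

omit [Finite G] in
theorem inv_t {x : G} (hx : x ∈ S ⊓ A) (x2 : x * x = 1) (e : t * x * t⁻¹ = x) : x = 1 ∨ x = y * y :=
  (Cy.mk ⟨2, by rw [← h.y4]; simp [pow_succ, mul_assoc]⟩ (mem_zpowers y) h.y4 h.y2).invol (h.cen x hx e) x2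

theorem cm {r w s : G} (c : CM S (S ⊓ A) r w s) : False := by
  have hs := h.s_inv c
  have hz : w * w ∈ zpowers r := mul_mem c.cy.mem c.cy.mem
  have hR : zpowers r ≤ S ⊓ A := zpowers_le.2 c.rT
  have zc : ∀ g ∈ S, g * (w * w) * g⁻¹ = w * w := fun g hg => c.cy.conj_z (c.nr g hg)
  have z2 := c.cy.y4
  have s1 : s ≠ 1 := fun e => c.sR (e ▸ one_mem _)
  have si : s⁻¹ = s := inv_eq_of_mul_eq_one_right c.s2
  have sz : s ≠ w * w := fun e => c.sR (e ▸ hz)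
  have ez : w * w = y * y := (h.inv_t (hR hz) z2 (zc t h.tS)).resolve_left c.cy.y2
  rcases c.cy.conj (c.nr t h.tS) with tw | tw
  · have := h.dih c h.tS h.t2 tw (h.cos (h.syl.le h.tS))
    exact sz (((h.inv_t c.sT c.s2 (mul_inv_eq_iff_eq_mul.2 this)).resolve_left s1).trans ez.symm)
  have out : ∀ x ∈ S ⊓ A, x ∉ zpowers r → ∃ j : ℤ, x = r ^ j * s := fun x hx hxR => by
    obtain ⟨j, hj⟩ := mem_zpowers_iff.1 ((c.idx x hx).resolve_right hxR)
    exact ⟨j, by rw [hj, mul_assoc, c.s2, mul_one]⟩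
  have act : ∀ j : ℤ, ∀ ρ ∈ zpowers r, r ^ j * s * ρ * (r ^ j * s)⁻¹ = s * ρ * s⁻¹ := fun j ρ hρ => by
    calc _ = r ^ j * (s * ρ * s⁻¹) * (r ^ j)⁻¹ := by group
      _ = _ := by rw [comm_zp (zpow_mem_zpowers r j) (c.nr s c.sT.1 ρ hρ), mul_inv_cancel_right]
  have out_inv : ∀ x ∈ S ⊓ A, x ∉ zpowers r → x * w * x⁻¹ = w⁻¹ := fun x hx hxR => by
    obtain ⟨j, rfl⟩ := out x hx hxR
    rw [act j w c.cy.mem, hs]
  have yR : y ∉ zpowers r := fun hy => by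
    rcases c.cy.four hy h.y4 h.y2 with e | e
    · exact c.cy.inv_ne (by rw [← tw, ← e, h.ty])
    · exact c.cy.inv_ne (by rw [← tw, ← inv_inv w, ← e, ← conj_inv, h.ty])
  obtain ⟨m, hm⟩ := out y h.yT yR
  have hv : t * y ∈ S := S.mul_mem h.tS h.yT.1
  have vw : t * y * w * (t * y)⁻¹ = w := by
    calc _ = t * (y * w * y⁻¹) * t⁻¹ := by group
      _ = w := by rw [out_inv y h.yT yR, ← conj_inv, tw, inv_inv]
  have vy : t * y * y * (t * y)⁻¹ = y := by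
    calc _ = t * y * t⁻¹ := by group
      _ = y := h.ty
  have v2 : t * y * (t * y) = w * w := by
    calc _ = t * y * t⁻¹ * (t * t) * y := by group
      _ = _ := by rw [h.ty, h.t2, mul_one, ez]
  have vA : t * y ∉ A := fun e => h.tA ((A.mul_mem_cancel_right h.yT.2).1 e)
  generalize t * y = v at hv vw vy v2 vA
  have vR : ∀ ρ ∈ zpowers r, v * ρ * v⁻¹ = ρ ∨ v * ρ * v⁻¹ = w * w * ρ := fun ρ hρ => by
    refine (c.cy.sq_of_inv (mul_mem (c.nr v hv ρ hρ) (inv_mem hρ)) vw ?_).imp (fun e => mul_inv_eq_one.1 e)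
      fun e => mul_inv_eq_iff_eq_mul.1 e
    calc _ = (v * v * ρ) * (v * v)⁻¹ * (v * ρ * v⁻¹)⁻¹ := by group
      _ = _ := by rw [v2, comm_zp hz hρ]; group
  have vs : v * s * v⁻¹ = s * (w * w) := by
    have e : s = (r ^ m)⁻¹ * y := by rw [hm]; group
    rcases vR _ (inv_mem (zpow_mem_zpowers r m)) with e1 | e1
    · exact (h.cm_sq c hv (mul_inv_eq_iff_eq_mul.1 (by rw [e, ← conj_mul, e1, vy])) v2
        (h.cos (h.syl.le hv))).elim
    · rw [mul_inv_eq_iff_eq_mul.1 (zc s c.sT.1), e, ← conj_mul, e1, vy, mul_assoc]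
  have vr : v * r * v⁻¹ = w * w * r := (vR r (mem_zpowers r)).resolve_left fun e => by
    have e0 : s = (r ^ m)⁻¹ * y := by rw [hm]; group
    rw [e0, ← conj_mul, ← conj_inv, ← conj_zpow, e, vy] at vs
    exact c.cy.y2 (by simpa using vs.symm)
  have r4 : r * r * (r * r) ≠ 1 := fun e => by
    have : v * r * v⁻¹ = r := by
      by_cases r2 : r * r = 1
      · rcases c.cy.invol (mem_zpowers r) r2 with e | e <;> rw [e]
        exacts [by simp, zc v hv]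
      · rcases c.cy.four (mem_zpowers r) e r2 with e | e <;> rw [e]
        exacts [vw, by rw [← conj_inv, vw]]
    exact c.cy.y2 (by simpa using vr.symm.trans this)
  have sr : s * r * s⁻¹ = w * w * r⁻¹ := by
    have hm' := c.nr s c.sT.1 r (mem_zpowers r)
    rcases c.cy.sq_of_cent (mul_mem hm' (mem_zpowers r)) hs (by
      calc _ = (s * s * r * (s * s)⁻¹) * (s * r * s⁻¹) := by group
        _ = _ := by rw [c.s2, one_mul, inv_one, mul_one, comm_zp hm' (mem_zpowers r)]) with e | e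
    · refine (h.y2 ?_).elim
      calc y * y = r ^ m * (s * r ^ m * s⁻¹) * (s * s) := by rw [hm]; group
        _ = 1 := by rw [← conj_zpow, eq_inv_of_mul_eq_one_left e, c.s2]; group
    · rw [← e]; group
  have sj : ∀ j : ℤ, s * r ^ j * s⁻¹ = (w * w) ^ j * (r ^ j)⁻¹ := fun j => by
    rw [← conj_zpow, sr, Commute.mul_zpow (comm_zp hz (inv_mem (mem_zpowers r))), inv_zpow]
  have sq : ∀ j : ℤ, r ^ j * s * (r ^ j * s) = (w * w) ^ j := fun j => by
    calc _ = r ^ j * (s * r ^ j * s⁻¹) * (s * s) := by group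
      _ = _ := by rw [sj, c.s2, ← mul_assoc, comm_zp (zpow_mem_zpowers r j) (zpow_mem hz j)]; group
  have zD : w * w ∈ zpowers (r * r) := by
    obtain ⟨i, hi⟩ := mem_zpowers_iff.1 c.cy.mem
    rw [← hi, ← zpow_add]; exact mem_zp_sq ⟨i, rfl⟩
  have hDR : zpowers (r * r) ≤ zpowers r := zpowers_le.2 (mul_mem (mem_zpowers r) (mem_zpowers r))
  have ev : ∀ ρ ∈ zpowers (r * r), ∃ j : ℤ, Even j ∧ ρ = r ^ j := fun ρ hρ => by
    obtain ⟨i, rfl⟩ := mem_zpowers_iff.1 hρ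
    exact ⟨i + i, ⟨i, rfl⟩, by rw [← two_mul, zpow_mul, zpow_two]⟩
  obtain ⟨D, hD⟩ := ext_two (H := zpowers (r * r)) (b := s) (fun x hx => by
    obtain ⟨j, hj, rfl⟩ := ev x hx
    rw [sj, zp_even z2 hj, one_mul]; exact inv_mem hx) (by rw [c.s2]; exact one_mem _)
  have rD : r ∉ zpowers (r * r) := fun e => by
    obtain ⟨j, hj, e⟩ := ev r e
    have := sj j
    rw [zp_even z2 hj, ← e, sr] at this
    exact c.cy.y2 (by simpa using this)
  obtain ⟨k, hk, a, ha, hx, hxD⟩ := foc (M := D) (b := r) h.sylT h.perf (fun x hx => by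
      rcases (hD x).1 hx with e | e
      · exact hR (hDR e)
      · exact (mul_mem_cancel_right (inv_mem c.sT)).1 (hR (hDR e))) c.rT
    (fun e => ((hD r).1 e).elim rD fun e => c.sR (by
      simpa using (mul_mem_cancel_left (mem_zpowers r)).1 (hDR e))) fun x hx => by
      by_cases hxR : x ∈ zpowers r
      · obtain ⟨j, rfl⟩ := mem_zpowers_iff.1 hxR
        rcases Int.even_or_odd j with hj | hj
        · exact Or.inr ((hD _).2 (Or.inl (mem_zp_sq hj)))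
        · exact Or.inl ((hD _).2 (Or.inl (by rw [← zpow_add_one]; exact mem_zp_sq hj.add_one)))
      · obtain ⟨j, rfl⟩ := out x hx hxR
        rcases Int.even_or_odd j with hj | hj
        · exact Or.inr ((hD _).2 (Or.inr (by simpa using mem_zp_sq hj)))
        · refine Or.inl ((hD _).2 (Or.inr ?_))
          rw [mul_assoc (r ^ j), mul_assoc, sr, comm_zp hz (inv_mem (mem_zpowers r)), ← mul_assoc,
            ← zpow_sub_one]
          exact mul_mem (mem_zp_sq (hj.sub_odd odd_one)) zD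
  have aa : a ∈ zpowers (r * r) ∨ a * a = 1 := ((hD a).1 ha).imp_right fun e => by
    obtain ⟨j, hj, e⟩ := ev _ e
    rw [mul_inv_eq_iff_eq_mul.1 e, sq, zp_even z2 hj]
  obtain ⟨n, hn⟩ := c.cy.pw
  by_cases hxR : k * a * k⁻¹ ∈ zpowers r
  · obtain ⟨j, hj⟩ := mem_zpowers_iff.1 hxR
    have hj' : Odd j := Int.not_even_iff_odd.1 fun e => hxD ((hD _).2 (Or.inl (hj ▸ mem_zp_sq e)))
    have h1 : zpowers r ≤ zpowers (k * a * k⁻¹) := zpowers_le.2 (hj ▸ mem_zp_odd hn hj')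
    rcases aa with e | e
    · have h2 : zpowers a ≤ zpowers r := (zpowers_le.2 e).trans hDR
      have := eq_of_le_of_card_ge h2 ((card_le_of_le h1).trans (by rw [← cj_zpowers, card_cj]))
      exact rD (zpowers_le.2 e (this ▸ mem_zpowers r))
    · rcases mem_two (z := k * a * k⁻¹) (by rw [conj_mul, e]; simp) (h1 (mem_zpowers r)) with e' | e'
      · exact r4 (by rw [e']; simp)
      · exact r4 (by rw [e', conj_mul, e]; simp)
  obtain ⟨j, hj⟩ := out _ hx hxR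
  have hj' : Odd j := Int.not_even_iff_odd.1 fun e => hxD ((hD _).2 (Or.inr (by
    rw [hj]; simpa using mem_zp_sq e)))
  have x2 : k * (a * a) * k⁻¹ = w * w := by rw [← conj_mul, hj, sq, zp_odd z2 hj']
  have a2 : a * a ≠ 1 := fun e => c.cy.y2 (by rw [← x2, e]; simp)
  have aR := hDR (aa.resolve_right a2)
  have hm' : Odd m := Int.not_even_iff_odd.1 fun e => h.y2 (by rw [hm, sq, zp_even z2 e])
  obtain ⟨τ, hτ, e⟩ : ∃ τ ∈ S ⊓ A, τ * y * τ⁻¹ = k * a * k⁻¹ := by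
    obtain ⟨l, hl⟩ := hj'.sub_odd hm'
    have e1 : r ^ l * y * (r ^ l)⁻¹ = ((w * w) ^ l)⁻¹ * (k * a * k⁻¹) := by
      calc _ = r ^ l * (r ^ m * s * (r ^ l)⁻¹ * (r ^ m * s)⁻¹) * y := by rw [hm]; group
        _ = r ^ l * (r ^ l * ((w * w) ^ l)⁻¹) * y := by
          rw [act m _ (inv_mem (zpow_mem_zpowers r l)), ← conj_inv, sj]; group
        _ = _ := by
          rw [comm_zp (zpow_mem_zpowers r l) (inv_mem (zpow_mem hz l)), ← mul_assoc,
            comm_zp (zpow_mem_zpowers r l) (inv_mem (zpow_mem hz l)), hj, hm,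
            show j = l + l + m by omega]; group
    rcases Int.even_or_odd l with h1 | h1
    · exact ⟨_, hR (zpow_mem_zpowers r l), by rw [e1, zp_even z2 h1]; simp⟩
    · refine ⟨w⁻¹ * r ^ l, mul_mem (inv_mem (Cf.yT c)) (hR (zpow_mem_zpowers r l)), ?_⟩
      have e2 := out_inv _ hx hxR
      generalize k * a * k⁻¹ = x at e1 e2
      calc _ = w⁻¹ * (r ^ l * y * (r ^ l)⁻¹) * w := by group
        _ = w⁻¹ * (w * w) * (x * w * x⁻¹) * x := by
          rw [e1, zp_odd z2 h1, inv_eq_of_mul_eq_one_right z2]; group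
        _ = x := by rw [e2]; group
  obtain ⟨g, hg, g', hg', e1, hP, hQ⟩ := ext2 h.syl (a := a) (b := y) (k := k⁻¹ * τ)
    (h.AB (mul_mem (inv_mem hk) hτ.2)) (by
      calc _ = k⁻¹ * (τ * y * τ⁻¹) * k := by group
        _ = a := by rw [e]; group) (P := zpowers r) (Q := zpowers t) (isPGroup_zpowers_of_pow hn)
    (hR.trans (inf_le_left.trans h.syl.le)) (fun x hx => mem_Cx.2 (comm_zp hx aR))
    (isPGroup_zpowers_of_pow (k := 1) (by simpa [pow_two] using h.t2)) (zpowers_le.2 (h.syl.le h.tS))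
    (zpowers_le.2 (mem_Cx'.2 h.ty))
  have xT : g * a * g⁻¹ ∈ S ⊓ A := ⟨hP a aR, h.cjA hg (hR aR).2⟩
  have xR : g * a * g⁻¹ ∈ zpowers r := by
    by_contra xR
    have rT : g * r * g⁻¹ ∈ S ⊓ A := ⟨hP r (mem_zpowers r), h.cjA hg c.rT.2⟩
    refine r4 (conj_eq_one_iff.1 (?_ : g * _ * g⁻¹ = 1))
    rw [← conj_mul, ← conj_mul]
    by_cases rR : g * r * g⁻¹ ∈ zpowers r
    · rcases c.cy.sq_of_cent rR (out_inv _ xT xR) (by
        rw [conj_inv, conj_mul, conj_mul, comm_zp aR (mem_zpowers r), mul_inv_cancel_right]) with e | e <;> rw [e]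
      exacts [by simp, by rw [z2, one_mul]]
    · obtain ⟨i, hi⟩ := out _ rT rR
      rw [hi, sq, ← zpow_add, zp_even z2 ⟨i, rfl⟩]
  have tS := hQ t (mem_zpowers t)
  have tw' : g' * t * g'⁻¹ * w * (g' * t * g'⁻¹)⁻¹ = w := by
    have e2 : g' * t * g'⁻¹ * (g * a * g⁻¹) * (g' * t * g'⁻¹)⁻¹ = g * a * g⁻¹ := by
      rw [e1, conj_inv, conj_mul, conj_mul, h.ty]
    rcases c.cy.four xR (by rw [e1]; simp only [conj_mul, h.y4]; simp)
      (by rw [e1, conj_mul]; exact fun e => h.y2 (conj_eq_one_iff.1 e)) with e | e <;> rw [e] at e2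
    · exact e2
    · rw [← inv_inj, conj_inv, e2]
  have tA : g' * t * g'⁻¹ ∉ A := fun e => h.tA (by simpa [mul_assoc] using h.cjA (inv_mem hg') e)
  have tt : g' * t * g'⁻¹ * (g' * t * g'⁻¹) = 1 := by rw [conj_mul, h.t2]; simp
  refine sz (h.rk' hg' c.sT.2 (hR hz).2 c.s2 z2 s1 c.cy.y2 (mul_inv_eq_iff_eq_mul.1 (zc s c.sT.1)) ?_
    (mul_inv_eq_iff_eq_mul.1 (zc _ tS)))
  generalize g' * t * g'⁻¹ = t' at tS tw' tA tt
  have wS := (Cf.yT c).1
  have hv' : v * w ∈ S := S.mul_mem hv wS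
  have v's : v * w * s * (v * w)⁻¹ = s := by
    calc _ = v * (w * s * w⁻¹) * v⁻¹ := by group
      _ = _ := by rw [h.y_s c, ← conj_mul, vs, zc v hv, mul_assoc, z2, mul_one]
  have v'w : v * w * w * (v * w)⁻¹ = w := by
    calc _ = v * w * v⁻¹ := by group
      _ = _ := vw
  have v'2 : v * w * (v * w) = 1 := by
    calc _ = v * w * v⁻¹ * (v * v) * w := by group
      _ = w * w * (w * w) := by rw [vw, v2]; group
      _ = 1 := z2
  have v'A : v * w ∉ A := fun e => vA ((A.mul_mem_cancel_right (Cf.yT c).2).1 e)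
  generalize v * w = v' at hv' v's v'w v'2 v'A
  have hρ : t' * v'⁻¹ ∈ zpowers r := by
    by_contra hρ
    refine c.cy.inv_ne ((out_inv _ ⟨S.mul_mem tS (S.inv_mem hv'), (h.mulA (h.syl.le tS)
      (inv_mem (h.syl.le hv'))).2 (by simp [tA, v'A])⟩ hρ).symm.trans ?_)
    calc _ = t' * (v'⁻¹ * (v' * w * v'⁻¹) * v') * t'⁻¹ := by rw [v'w]; group
      _ = t' * w * t'⁻¹ := by group
      _ = w := tw'
  have vi : v'⁻¹ = v' := inv_eq_of_mul_eq_one_right v'2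
  have ti : t'⁻¹ = t' := inv_eq_of_mul_eq_one_right tt
  rcases c.cy.sq_of_inv hρ v'w (by
    rw [mul_inv_rev, inv_inv, ti, mul_assoc, mul_assoc, vi, v'2, mul_one]) with e | e
  · rw [mul_inv_eq_one.1 e]; exact mul_inv_eq_iff_eq_mul.1 v's
  · rw [mul_inv_eq_iff_eq_mul.1 e, mul_assoc, mul_inv_eq_iff_eq_mul.1 v's, ← mul_assoc,
      ← mul_inv_eq_iff_eq_mul.1 (zc s c.sT.1), mul_assoc]

end Tf

end CfsgLib.Semi4
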